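import Cfsg.Agent.LocalFlavell.CommutatorFixedNoncentral

/-! All minimal invariant subgroups central. -/

set_option autoImplicit false
set_option linter.unusedSectionVars false

namespace Cfsg.Agent.LocalFlavell.CommutatorFixed

open Subgroup
open scoped Pointwise commutatorElement IsMulCommutative

universe u

variable {G : Type u} [Group G] {p : ℕ} [Fact p.Prime] {x : G} {H : Subgroup G}

/-- The unique minimal invariant subgroup, central and fixed by `x`, outside `T`. -/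
structure Central (p : ℕ) (x : G) (H N : Subgroup G) : Prop where
  setup : Setup p x H
  inv : Inv x H N
  fixed : N ≤ centralizer (zpowers x : Set G)
  not_le : ¬ N ≤ T x H
  least : ∀ K, Inv x H K → K ≠ ⊥ → N ≤ K
  cen : N ≤ centralizer (H : Set G)
  tz : ∀ t ∈ T x H, t ∈ centralizer (H : Set G) → t = 1

theorem exists_central [Finite G] (s : Setup p x H) {w : G}
    (hw : w ∈ H ⊓ centralizer (zpowers x : Set G)) (hwT : w ∉ T x H) :
    ∃ N, Central p x H N := by
  have hHne : H ≠ ⊥ := by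
    intro e
    have := (mem_inf.mp hw).1
    rw [e, mem_bot] at this
    exact hwT (this ▸ one_mem _)
  have key : ∀ N, Inv x H N → N ≠ ⊥ → (∀ K, Inv x H K → K ≤ N → K = ⊥ ∨ K = N) →
      N ≤ centralizer (zpowers x : Set G) ∧ ¬ N ≤ T x H ∧ N ≤ centralizer (H : Set G) := by
    intro N hN hne hmin
    have hfix : ⁅N, zpowers x⁆ = ⊥ := by
      by_contra h
      exact hwT (noncentral s hN hne hmin h hw)
    have h1 : N ≤ centralizer (zpowers x : Set G) := commutator_eq_bot_iff_le_centralizer.mp hfix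
    refine ⟨h1, fun h => hwT ((le_T_sup s.hx s.hxH s.hsol s.hcop s.hH hN hne s.IH).trans
      (sup_le le_rfl (inf_le_left.trans h)) hw), ?_⟩
    rw [le_centralizer_iff]
    refine s.hH.ge.trans (centralizes_of_three (le_centralizer_iff.mp h1) (le_trans ?_ h1))
    exact le_normalizer_iff_commutator_le_left.mp hN.nH
  obtain ⟨N, -, hne, hN, hmin⟩ := exists_minimal (inv_self x s.hxH) hHne
  obtain ⟨hfix, hnT, hcen⟩ := key N hN hne hmin
  have htz : ∀ t ∈ T x H, t ∈ centralizer (H : Set G) → t = 1 := by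
    intro t ht htc
    by_contra h1
    have hI : Inv x H (zpowers t) := by
      refine ⟨zpowers_le.mpr (T_le s.hxH ht), le_normalizer_of_centralizer ?_,
        le_normalizer_of_centralizer ?_⟩
      · exact le_centralizer_iff.mp (zpowers_le.mpr htc)
      · exact le_centralizer_iff.mp (zpowers_le.mpr (T_le_cent x H ht))
    obtain ⟨N', hN't, hne', hN', hmin'⟩ := exists_minimal hI (by simpa using h1)
    exact (key N' hN' hne' hmin').2.1 (hN't.trans (zpowers_le.mpr ht))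
  refine ⟨N, s, hN, hfix, hnT, fun K hK hKne => ?_, hcen, htz⟩
  obtain ⟨N', hN'K, hne', hN', hmin'⟩ := exists_minimal hK hKne
  refine le_trans ?_ hN'K
  rcases hmin _ (hN.inf hN') inf_le_left with h | h
  swap
  · exact h.ge.trans inf_le_right
  exfalso
  obtain ⟨hfix', hnT', hcen'⟩ := key N' hN' hne' hmin'
  refine hne' (le_bot_iff.mp fun n' hn' => ?_)
  have hnormT : N ≤ normalizer (T x H : Set G) := le_normalizer_of_conj fun c hc t ht =>
    T_conj (hN.le hc) (mem_cent.mp (hfix hc)) ht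
  have h2 := (le_T_sup s.hx s.hxH s.hsol s.hcop s.hH hN hne s.IH).trans (sup_le_sup_left inf_le_left _)
    (mem_inf.mpr ⟨hN'.le hn', hfix' hn'⟩)
  obtain ⟨t, ht, n, hn, e⟩ := (Coprime.mem_sup_of_le_normalizer hnormT).mp h2
  have hte : t = n' * n⁻¹ := by rw [← e, mul_inv_cancel_right]
  have ht1 : t = 1 := htz t ht (hte ▸ mul_mem (hcen' hn') (inv_mem (hcen hn)))
  rw [ht1, one_mul] at e
  subst e
  rw [← h]
  exact mem_inf.mpr ⟨hn, hn'⟩

variable {N : Subgroup G}

theorem Central.false [Finite G] (C : Central p x H N) {w : G}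
    (hw : w ∈ H ⊓ centralizer (zpowers x : Set G)) (hwT : w ∉ T x H) : False := by
  have s := C.setup
  set X := zpowers x with hX
  have hsolX := solvable_zpowers x
  obtain ⟨hwH, hwX⟩ := mem_inf.mp hw
  have hNne : N ≠ ⊥ := fun e => C.not_le (e ▸ bot_le)
  set Z := H ⊓ centralizer (H : Set G) with hZdef
  have hH := inv_self x s.hxH
  have hZ : Inv x H Z := hH.inf_centralizer hH
  have : IsMulCommutative Z := ⟨⟨fun a b => Subtype.ext (mem_centralizer_iff.mp (mem_inf.mp b.2).2 a (mem_inf.mp a.2).1)⟩⟩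
  have htZ : ∀ t ∈ T x H, t ∈ Z → t = 1 := fun t ht htz => C.tz t ht (mem_inf.mp htz).2
  have hZX : Z ≤ centralizer (X : Set G) := by
    have hinv : Inv x H ⁅Z, X⁆ := by
      have hle := Coprime.commutator_le_of_le_normalizer hZ.nx
      exact ⟨hle.trans hZ.le, le_normalizer_of_centralizer (le_centralizer_iff.mp (hle.trans inf_le_right)),
        normalizer_commutator_ge_right _ _⟩
    refine commutator_eq_bot_iff_le_centralizer.mp ?_
    by_contra h
    refine hNne (le_bot_iff.mp ?_)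
    have h1 := C.least _ hinv h
    rw [← Coprime.inf_centralizer_inf_commutator hZ.nx (s.cop hZ.le)]
    exact le_inf (le_inf (h1.trans (Coprime.commutator_le_of_le_normalizer hZ.nx)) C.fixed) h1
  have hZH : Z ≠ H := by
    intro e
    have hb : ⁅H, X⁆ = ⊥ := commutator_eq_bot_iff_le_centralizer.mpr (e ▸ hZX)
    have := (s.hH.symm.trans hb) ▸ hwH
    exact hwT (mem_bot.mp this ▸ one_mem _)
  obtain ⟨M, hMH, ⟨hM, hZM, hMZ⟩, hMmin⟩ := Set.Finite.exists_le_minimal
    (Set.toFinite {K : Subgroup G | Inv x H K ∧ Z ≤ K ∧ K ≠ Z}) (a := H) ⟨hH, hZ.le, Ne.symm hZH⟩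
  have hMmin' : ∀ K, Inv x H K → Z ≤ K → K ≤ M → K ≠ Z → K = M := fun K h1 h2 h3 h4 =>
    le_antisymm h3 (hMmin ⟨h1, h2, h4⟩ h3)
  have hMM : ⁅M, M⁆ ≤ Z := by
    have hlt : ⁅M, M⁆ < M := Coprime.commutator_lt_of_isSolvable (Coprime.isSolvable_of_le hM.le s.hsol)
      (fun e => hMZ (le_antisymm (e ▸ bot_le) hZM))
    by_cases h : ⁅M, M⁆ ⊔ Z = Z
    · exact le_sup_left.trans h.le
    exfalso
    have hP := hMmin' _ ((hM.comm hM).sup hZ) le_sup_right (sup_le hlt.le hZM) h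
    have hsol' := Coprime.isSolvable_of_le (hlt.le.trans hM.le) s.hsol
    by_cases hb : ⁅M, M⁆ = ⊥
    · exact hMZ (by rw [← hP, hb, bot_sup_eq])
    have hlt2 := Coprime.commutator_lt_of_isSolvable hsol' hb
    refine hlt2.ne (le_antisymm hlt2.le ?_)
    have hgen : ∀ m ∈ M, ∃ a ∈ ⁅M, M⁆, ∃ z ∈ centralizer (M : Set G), m = a * z := by
      intro m hm
      obtain ⟨a, ha, z, hz, e⟩ := (Coprime.mem_sup_of_le_normalizer (hZ.le.trans (hM.comm hM).nH)).mp (hP.ge hm)
      exact ⟨a, ha, z, centralizer_le (show (M : Set G) ⊆ H from hM.le) (mem_inf.mp hz).2, e.symm⟩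
    have h1 := Coprime.commutator_le_of_forall_eq_mul (A := M) hgen
    have hgen2 : ∀ m ∈ M, ∃ a ∈ ⁅M, M⁆, ∃ z ∈ centralizer ((⁅M, M⁆ : Subgroup G) : Set G), m = a * z := by
      intro m hm
      obtain ⟨a, ha, z, hz, e⟩ := hgen m hm
      exact ⟨a, ha, z, centralizer_le (show ((⁅M, M⁆ : Subgroup G) : Set G) ⊆ M from hlt.le) hz, e⟩
    rw [commutator_comm ⁅M, M⁆ M] at h1
    exact h1.trans (Coprime.commutator_le_of_forall_eq_mul (A := ⁅M, M⁆) hgen2)
  have hfin : ∀ y ∈ H, D x y ≠ H := fun y hy e => hwT (le_T hy (e.symm ▸ hwH) hwX)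
  have hDZ : ∀ y ∈ H, Z ⊔ D x y ≠ H := by
    intro y hy e
    refine hfin y hy (le_antisymm (s.D_le hy) ?_)
    refine s.hH.ge.trans (le_trans (Coprime.commutator_le_of_forall_eq_mul (X := D x y) fun h hh => ?_) (s.D_eq hy).le)
    obtain ⟨z, hz, d, hd, e'⟩ := (Coprime.mem_sup_of_le_normalizer ((s.D_le hy).trans hZ.nH)).mp (e.ge hh)
    exact ⟨d, hd, z, hZX hz, by rw [← e']; exact (mem_centralizer_iff.mp (mem_inf.mp hz).2 d (s.D_le hy hd)).symm⟩
  by_cases hMeq : M = H
  · obtain ⟨y, hy, hyZ⟩ : ∃ y ∈ H, ¬ D x y ≤ Z := by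
      by_contra h
      push Not at h
      exact hZH (le_antisymm hZ.le (s.le_of_D h))
    refine hDZ y hy (le_antisymm (sup_le hZ.le (s.D_le hy)) ?_)
    rw [← hMeq]
    refine (hMmin' _ ⟨sup_le hZ.le (s.D_le hy), le_normalizer_of_conj fun g hg m hm => ?_,
      le_normalizer_sup hZ.nx (D_normalizer x y)⟩ le_sup_left (hMeq.ge.trans' (sup_le hZ.le (s.D_le hy)))
      (fun e => hyZ (le_sup_right.trans e.le))).ge
    have hmH : m ∈ H := sup_le hZ.le (s.D_le hy) hm
    have : g * m * g⁻¹ * m⁻¹ ∈ Z := hMM (commutator_mem_commutator (hMeq.ge hg) (hMeq.ge hmH))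
    have := mul_mem (mem_sup_left (T := D x y) this) hm
    simpa using this
  set S := ⁅M, X⁆ with hS
  have hSM : S ≤ M := Coprime.commutator_le_of_le_normalizer hM.nx
  have hST : S ⊓ centralizer (X : Set G) ≤ T x H := s.fixed_mem hM.le hMeq hM.nx
  have hSne : S ≠ ⊥ := by
    intro e
    have hMX : M ≤ centralizer (X : Set G) := commutator_eq_bot_iff_le_centralizer.mp e
    refine hMZ (le_antisymm (le_inf hM.le ?_) hZM)
    rw [le_centralizer_iff]
    exact s.hH.ge.trans (centralizes_of_three (le_centralizer_iff.mp hMX)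
      ((le_normalizer_iff_commutator_le_left.mp hM.nH).trans hMX))
  obtain ⟨y, hy, hMD⟩ : ∃ y ∈ H, M ⊔ D x y = H := by
    by_contra h
    push Not at h
    obtain ⟨h1, h2⟩ := lemmaA s hM hMeq h
    exact C.not_le ((le_inf (C.least _ h1 fun e => hSne (le_bot_iff.mp (le_sup_left.trans e.le))) C.fixed).trans h2)
  set D0 := D x y with hD0
  have hD0H : D0 ≤ H := s.D_le hy
  have hD0X : X ≤ normalizer (D0 : Set G) := D_normalizer x y
  have hnH : ∀ {K : Subgroup G}, M ≤ normalizer (K : Set G) → D0 ≤ normalizer (K : Set G) →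
      H ≤ normalizer (K : Set G) := fun h1 h2 => hMD ▸ sup_le h1 h2
  have hND : ¬ N ≤ D0 := fun h => C.not_le fun c hc => le_T hy (h hc) (C.fixed hc)
  have hDZ1 : ∀ c ∈ D0, c ∈ Z → c = 1 := fun c hc hcZ => htZ c (le_T hy hc (hZX hcZ)) hcZ
  have hDM : ∀ c ∈ D0, c ∈ M → c = 1 := by
    have hP : Inv x H (D0 ⊓ M ⊔ Z) := by
      refine ⟨sup_le (inf_le_right.trans hM.le) hZ.le, hnH ?_
        (le_normalizer_sup (le_normalizer_inf le_normalizer (hD0H.trans hM.nH)) (hD0H.trans hZ.nH)),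
        le_normalizer_sup (le_normalizer_inf hD0X hM.nx) hZ.nx⟩
      refine le_normalizer_of_conj fun m hm c hc => ?_
      have hcM : c ∈ M := sup_le inf_le_right hZM hc
      have := mul_mem (mem_sup_right (S := D0 ⊓ M) (hMM (commutator_mem_commutator hm hcM))) hc
      simpa [commutatorElement_def] using this
    by_cases h : D0 ⊓ M ⊔ Z = Z
    · exact fun c hc hcM => hDZ1 c hc (h.le (mem_sup_left ⟨hc, hcM⟩))
    exfalso
    have hPM := hMmin' _ hP le_sup_right (sup_le inf_le_right hZM) h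
    refine hDZ y hy (le_antisymm (sup_le hZ.le hD0H) ?_)
    rw [← hMD, ← hPM]
    exact sup_le (sup_le (inf_le_left.trans le_sup_right) le_sup_left) le_sup_right
  -- `M` is abelian
  have hSS : ∀ a ∈ S, ∀ b ∈ S, a * b = b * a := by
    intro a ha b hb
    have h1 : a * b * a⁻¹ * b⁻¹ ∈ Z := hMM (commutator_mem_commutator (hSM ha) (hSM hb))
    have := htZ _ (hST (mem_inf.mpr ⟨mul_mem (mul_mem (mul_mem ha hb) (inv_mem ha)) (inv_mem hb), hZX h1⟩)) h1
    exact commutatorElement_eq_one_iff_commute.mp this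
  have hZcomm : ∀ z ∈ Z, ∀ g ∈ H, g * z = z * g := fun z hz g hg =>
    mem_centralizer_iff.mp (mem_inf.mp hz).2 g hg
  have htrick : ∀ {A : Subgroup G} {c : G}, A ≤ H → X ≤ normalizer (A : Set G) →
      c ∈ centralizer (X : Set G) → (∀ m ∈ A, m * c * m⁻¹ * c⁻¹ ∈ Z) →
      ⁅A, X⁆ ≤ centralizer ({c} : Set G) := fun {A c} hA hAX hc h =>
    trick hAX (mem_cent.mp hc) (fun m hm => mem_cent.mp (hZX (h m hm)))
      (fun m hm n hn => hZcomm _ (h m hm) n (hA hn))
  have hsplit : ∀ m ∈ M, ∃ c ∈ M ⊓ centralizer (X : Set G), ∃ a ∈ S, m = c * a := fun m hm =>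
    Coprime.exists_eq_centralizer_mul_commutator hM.nx (s.cop hM.le) (Or.inl hsolX) hm
  have hSC : S ≤ centralizer (M : Set G) := by
    intro a ha
    refine mem_centralizer_iff.mpr fun m hm => ?_
    obtain ⟨c, hc, b, hb, rfl⟩ := hsplit m hm
    obtain ⟨hcM, hcX⟩ := mem_inf.mp hc
    have h1 := mem_centralizer_singleton_iff.mp (htrick hM.le hM.nx hcX
      (fun n hn => hMM (commutator_mem_commutator hn hcM)) ha)
    rw [mul_assoc, hSS b hb a ha, ← mul_assoc, ← h1, mul_assoc]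
  have hMab : M ≤ centralizer (M : Set G) := by
    have hP := hM.inf_centralizer hM
    have h := hMmin' _ hP (le_inf hZM (inf_le_right.trans (centralizer_le (show (M : Set G) ⊆ H from hM.le))))
      inf_le_left fun e => hSne (le_bot_iff.mp fun a ha => by
        have haZ : a ∈ Z := e.le ⟨hSM ha, hSC ha⟩
        exact mem_bot.mpr (htZ a (hST ⟨ha, hZX haZ⟩) haZ))
    exact h.ge.trans inf_le_right
  have : IsMulCommutative M := ⟨⟨fun a b => Subtype.ext (mem_centralizer_iff.mp (hMab b.2) a a.2)⟩⟩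
  have hK1 : ∀ c ∈ D0, c ∈ centralizer (M : Set G) → c = 1 := by
    intro c hc hcM
    have hinv : Inv x H (D0 ⊓ centralizer (M : Set G)) :=
      ⟨inf_le_left.trans hD0H, hnH (le_normalizer_of_centralizer (le_centralizer_iff.mp inf_le_right))
        (le_normalizer_inf le_normalizer (le_normalizer_centralizer (hD0H.trans hM.nH))),
        le_normalizer_inf hD0X (le_normalizer_centralizer hM.nx)⟩
    by_contra h
    refine hND ((C.least _ hinv fun e => h ?_).trans inf_le_left)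
    have := (mem_inf.mpr ⟨hc, hcM⟩ : c ∈ D0 ⊓ centralizer (M : Set G))
    rwa [e, mem_bot] at this
  -- the part of `D0` acting trivially on `M / Z`
  let D1 : Subgroup G :=
    { carrier := {d | d ∈ D0 ∧ ∀ m ∈ M, d * m * d⁻¹ * m⁻¹ ∈ Z}
      one_mem' := ⟨one_mem _, fun m _ => by simp⟩
      mul_mem' := fun {a b} ha hb => ⟨mul_mem ha.1 hb.1, fun m hm => by
        have h1 := ha.2 _ (conj_mem_of_le hM.nH (hD0H hb.1) hm)
        have := mul_mem h1 (hb.2 m hm)
        simpa [mul_assoc] using this⟩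
      inv_mem' := fun {a} ha => ⟨inv_mem ha.1, fun m hm => by
        have h1 := ha.2 _ (conj_mem_of_le hM.nH (inv_mem (hD0H ha.1)) hm)
        have := inv_mem h1
        simpa [mul_assoc] using this⟩ }
  have hD1D : D1 ≤ D0 := fun d hd => hd.1
  have hD1nD : D0 ≤ normalizer (D1 : Set G) := le_normalizer_of_conj fun g hg d hd =>
    ⟨mul_mem (mul_mem hg hd.1) (inv_mem hg), fun m hm => by
      have h1 := hd.2 _ (conj_mem_of_le hM.nH (inv_mem (hD0H hg)) hm)
      have := conj_mem_of_le hZ.nH (hD0H hg) h1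
      simpa [mul_assoc] using this⟩
  have hD1nX : X ≤ normalizer (D1 : Set G) := le_normalizer_of_conj fun g hg d hd =>
    ⟨conj_mem_of_le hD0X hg hd.1, fun m hm => by
      have h1 := hd.2 _ (conj_mem_of_le hM.nx (inv_mem hg) hm)
      have := conj_mem_of_le hZ.nx hg h1
      simpa [mul_assoc] using this⟩
  have hD1comm : ∀ d ∈ D1, ∀ m ∈ M, m * d * m⁻¹ * d⁻¹ ∈ Z := fun d hd m hm => by
    have := inv_mem (hd.2 m hm)
    simpa [mul_assoc] using this
  have hCMD1 : ∀ c ∈ M ⊓ centralizer (X : Set G), ⁅D1, X⁆ ≤ centralizer ({c} : Set G) := fun c hc =>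
    htrick (hD1D.trans hD0H) hD1nX (mem_inf.mp hc).2 fun d hd => hd.2 c (mem_inf.mp hc).1
  have hSD1C : ∀ c ∈ D1, c ∈ centralizer (X : Set G) → ∀ a ∈ S, a * c = c * a := fun c hc hcX a ha =>
    mem_centralizer_singleton_iff.mp (htrick hM.le hM.nx hcX (hD1comm c hc) ha)
  by_cases hD1eq : D1 = D0
  · -- `D0` acts trivially on `M / Z`
    have hall : ∀ d ∈ D0, ∀ m ∈ M, d * m * d⁻¹ * m⁻¹ ∈ Z := fun d hd => (hD1eq.ge hd).2
    have hDCM : ∀ c ∈ M ⊓ centralizer (X : Set G), ∀ d ∈ D0, d * c = c * d := fun c hc d hd =>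
      mem_centralizer_singleton_iff.mp (hCMD1 c hc ((s.D_eq hy).ge.trans (le_of_eq (by rw [hD1eq])) hd))
    have hCD : ∀ d ∈ D0, (∀ a ∈ S, a * d = d * a) → d = 1 := by
      intro d hd h
      refine hK1 d hd (mem_centralizer_iff.mpr fun m hm => ?_)
      obtain ⟨c, hc, a, ha, rfl⟩ := hsplit m hm
      rw [mul_assoc, h a ha, ← mul_assoc, ← hDCM c hc d hd, mul_assoc]
    have hDD : ∀ a ∈ D0, ∀ b ∈ D0, a * b = b * a := by
      intro a ha b hb
      have hcom : a * b * a⁻¹ * b⁻¹ ∈ D0 := mul_mem (mul_mem (mul_mem ha hb) (inv_mem ha)) (inv_mem hb)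
      refine commutatorElement_eq_one_iff_commute.mp (hK1 _ hcom ?_)
      have h2 : ⁅D0, M⁆ ≤ centralizer (D0 : Set G) := commutator_le.mpr fun d hd m hm =>
        centralizer_le (show (D0 : Set G) ⊆ H from hD0H) (mem_inf.mp (hall d hd m hm)).2
      have h3 : ⁅⁅M, D0⁆, D0⁆ = ⊥ := by
        rw [commutator_comm M D0]; exact commutator_eq_bot_iff_le_centralizer.mpr h2
      have h4 := commutator_eq_bot_iff_le_centralizer.mp
        (commutator_commutator_eq_bot_of_rotate (H₁ := D0) (H₂ := D0) (H₃ := M)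
          (commutator_eq_bot_iff_le_centralizer.mpr h2) h3)
      exact h4 (commutator_mem_commutator ha hb)
    obtain ⟨m0, hm0, d0, hd0, hyd⟩ := (Coprime.mem_sup_of_le_normalizer (hD0H.trans hM.nH)).mp (hMD.ge hy)
    have hd0H := hD0H hd0
    have hDeq : ∀ i : ℕ, y⁻¹ * x ^ i * y * (x ^ i)⁻¹ = d0⁻¹ * x ^ i * d0 * (x ^ i)⁻¹ := by
      intro i
      refine mul_inv_eq_one.mp (hDM _ ?_ ?_)
      · refine mul_mem (mem_D x y i) (inv_mem ?_)
        have h1 : x ^ i * d0 * (x ^ i)⁻¹ ∈ D0 := conj_mem_of_le hD0X (npow_mem_zpowers x i) hd0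
        have := mul_mem (inv_mem hd0) h1
        simpa [mul_assoc] using this
      · rw [← hyd]
        have h1 : m0⁻¹ * (x ^ i * m0 * (x ^ i)⁻¹) ∈ M :=
          mul_mem (inv_mem hm0) (conj_mem_of_le hM.nx (npow_mem_zpowers x i) hm0)
        have := conj_mem_of_le hM.nH (inv_mem hd0H) h1
        rw [show (m0 * d0)⁻¹ * x ^ i * (m0 * d0) * (x ^ i)⁻¹ * (d0⁻¹ * x ^ i * d0 * (x ^ i)⁻¹)⁻¹ =
          d0⁻¹ * (m0⁻¹ * (x ^ i * m0 * (x ^ i)⁻¹)) * d0⁻¹⁻¹ from by group]
        exact this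
    set δ := d0⁻¹ * x * d0 * x⁻¹ with hδ
    have hδD : δ ∈ D0 := by
      have := mem_D x y 1
      rwa [hDeq, pow_one] at this
    have hconjD : ∀ d ∈ D0, x * d * x⁻¹ ∈ D0 := fun d hd => conj_mem_of_le hD0X (mem_zpowers x) hd
    -- the bilinear identity
    have hB : ∀ m ∈ M,
        δ * (x * (m⁻¹ * (x * m * x⁻¹)) * x⁻¹) * δ⁻¹ * (x * (m⁻¹ * (x * m * x⁻¹)) * x⁻¹)⁻¹ =
        (x * δ * x⁻¹) * (m⁻¹ * (x * m * x⁻¹)) * (x * δ * x⁻¹)⁻¹ * (m⁻¹ * (x * m * x⁻¹))⁻¹ := by
      intro m hm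
      have hmy : m * d0 ∈ H := mul_mem (hM.le hm) hd0H
      set σ := m⁻¹ * (x * m * x⁻¹) with hσ
      have hσM : σ ∈ M := mul_mem (inv_mem hm) (conj_mem_of_le hM.nx (mem_zpowers x) hm)
      have hxσ : x * σ * x⁻¹ ∈ M := conj_mem_of_le hM.nx (mem_zpowers x) hσM
      set s2 := σ * (x * σ * x⁻¹) with hs2
      have hs2M : s2 ∈ M := mul_mem hσM hxσ
      set e2 := δ * (x * δ * x⁻¹) with he2
      have he2D : e2 ∈ D0 := mul_mem hδD (hconjD δ hδD)
      obtain ⟨z1, hz1, hg1⟩ : ∃ z ∈ Z, (m * d0)⁻¹ * x * (m * d0) * x⁻¹ = z * σ * δ := by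
        refine ⟨d0⁻¹ * σ * d0⁻¹⁻¹ * σ⁻¹, hall _ (inv_mem hd0) σ hσM, ?_⟩
        rw [hσ, hδ]; group
      obtain ⟨z2, hz2, hg2⟩ : ∃ z ∈ Z, (m * d0)⁻¹ * x ^ 2 * (m * d0) * (x ^ 2)⁻¹ = z * s2 * e2 := by
        refine ⟨d0⁻¹ * s2 * d0⁻¹⁻¹ * s2⁻¹, hall _ (inv_mem hd0) s2 hs2M, ?_⟩
        rw [hs2, he2, hσ, hδ, pow_two]; group
      have hz1c := hZcomm z1 hz1
      have hz2c := hZcomm z2 hz2
      set u1 := δ * s2 * δ⁻¹ * s2⁻¹ with hu1
      set u2 := e2 * σ * e2⁻¹ * σ⁻¹ with hu2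
      have hu1Z : u1 ∈ Z := hall δ hδD s2 hs2M
      have hu2Z : u2 ∈ Z := hall e2 he2D σ hσM
      have hc1 : σ * δ * (s2 * e2) = σ * s2 * (δ * e2) * u1 := by
        rw [hZcomm u1 hu1Z _ (mul_mem (mul_mem (hM.le hσM) (hM.le hs2M)) (mul_mem (hD0H hδD) (hD0H he2D)))]
        calc σ * δ * (s2 * e2) = σ * u1 * s2 * (δ * e2) := by rw [hu1]; group
          _ = u1 * σ * s2 * (δ * e2) := by rw [hZcomm u1 hu1Z σ (hM.le hσM)]
          _ = _ := by group
      have hc2 : s2 * e2 * (σ * δ) = σ * s2 * (δ * e2) * u2 := by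
        rw [hZcomm u2 hu2Z _ (mul_mem (mul_mem (hM.le hσM) (hM.le hs2M)) (mul_mem (hD0H hδD) (hD0H he2D)))]
        calc s2 * e2 * (σ * δ) = s2 * u2 * σ * (e2 * δ) := by rw [hu2]; group
          _ = u2 * (s2 * σ) * (e2 * δ) := by rw [hZcomm u2 hu2Z s2 (hM.le hs2M)]; group
          _ = u2 * (σ * s2) * (δ * e2) := by
            rw [mem_centralizer_iff.mp (hMab hσM) s2 hs2M, hDD δ hδD e2 he2D]
          _ = _ := by group
      set g1 := (m * d0)⁻¹ * x * (m * d0) * x⁻¹ with hg1def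
      set g2 := (m * d0)⁻¹ * x ^ 2 * (m * d0) * (x ^ 2)⁻¹ with hg2def
      have hg1D : g1 ∈ D x (m * d0) := mem_D_one x _
      have hg2D : g2 ∈ D x (m * d0) := mem_D x _ 2
      have hσδH : σ * δ ∈ H := mul_mem (hM.le hσM) (hD0H hδD)
      have hseH : s2 * e2 ∈ H := mul_mem (hM.le hs2M) (hD0H he2D)
      have hz12 : z1 * z2 = z2 * z1 := hz2c z1 (mem_inf.mp hz1).1
      have hgg : g1 * g2 * g1⁻¹ * g2⁻¹ = u1 * u2⁻¹ := by
        have h1 : g1 * g2 = z1 * z2 * (σ * s2 * (δ * e2)) * u1 := by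
          calc g1 * g2 = z1 * ((σ * δ) * z2) * (s2 * e2) := by rw [hg1, hg2]; group
            _ = z1 * z2 * (σ * δ * (s2 * e2)) := by rw [hz2c _ hσδH]; group
            _ = _ := by rw [hc1]; group
        have h2 : g2 * g1 = z1 * z2 * (σ * s2 * (δ * e2)) * u2 := by
          calc g2 * g1 = z2 * ((s2 * e2) * z1) * (σ * δ) := by rw [hg1, hg2]; group
            _ = z2 * z1 * (s2 * e2 * (σ * δ)) := by rw [hz1c _ hseH]; group
            _ = _ := by rw [hc2, hz12]; group
        set A := z1 * z2 * (σ * s2 * (δ * e2)) with hA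
        have hAH : A ∈ H := mul_mem (mul_mem (mem_inf.mp hz1).1 (mem_inf.mp hz2).1)
          (mul_mem (mul_mem (hM.le hσM) (hM.le hs2M)) (mul_mem (hD0H hδD) (hD0H he2D)))
        calc g1 * g2 * g1⁻¹ * g2⁻¹ = (g1 * g2) * (g2 * g1)⁻¹ := by group
          _ = A * (u1 * u2⁻¹) * A⁻¹ := by rw [h1, h2]; group
          _ = _ := by rw [hZcomm _ (mul_mem hu1Z (inv_mem hu2Z)) A hAH, mul_inv_cancel_right]
      have hone : u1 = u2 := by
        refine mul_inv_eq_one.mp (htZ _ ?_ (mul_mem hu1Z (inv_mem hu2Z)))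
        refine le_T hmy ?_ (hZX (mul_mem hu1Z (inv_mem hu2Z)))
        rw [← hgg]
        exact mul_mem (mul_mem (mul_mem hg1D hg2D) (inv_mem hg1D)) (inv_mem hg2D)
      -- expand both sides
      set t := x * σ * x⁻¹ with ht
      set η := x * δ * x⁻¹ with hη
      have hηD : η ∈ D0 := hconjD δ hδD
      have e1 : u1 = (δ * σ * δ⁻¹ * σ⁻¹) * (δ * t * δ⁻¹ * t⁻¹) := by
        have hc := hZcomm _ (hall δ hδD t hxσ) σ (hM.le hσM)
        calc u1 = (δ * σ * δ⁻¹ * σ⁻¹) * (σ * (δ * t * δ⁻¹ * t⁻¹)) * σ⁻¹ := by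
              rw [hu1, hs2]; group
          _ = _ := by rw [hc]; group
      have e2' : u2 = (η * σ * η⁻¹ * σ⁻¹) * (δ * σ * δ⁻¹ * σ⁻¹) := by
        have hc := hZcomm _ (hall η hηD σ hσM) δ (hD0H hδD)
        calc u2 = (δ * (η * σ * η⁻¹ * σ⁻¹)) * (σ * δ⁻¹ * σ⁻¹) := by rw [hu2, he2]; group
          _ = _ := by rw [hc]; group
      rw [e1, e2', hZcomm _ (hall δ hδD σ hσM) (η * σ * η⁻¹ * σ⁻¹)
        (mul_mem (mul_mem (mul_mem (hD0H hηD) (hM.le hσM)) (inv_mem (hD0H hηD))) (inv_mem (hM.le hσM)))] at hone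
      exact mul_left_cancel hone
    -- hence `x² δ` and `δ` act alike
    have hfixδ : (x * x) * δ = δ * (x * x) := by
      set w' := (x * δ * x⁻¹)⁻¹ * (x⁻¹ * δ * x) with hw'
      have hxi : x⁻¹ * δ * x ∈ D0 := by
        simpa using conj_mem_of_le hD0X (inv_mem (mem_zpowers x)) hδD
      have hw'D : w' ∈ D0 := mul_mem (inv_mem (hconjD δ hδD)) hxi
      have hσc : ∀ m ∈ M, (m⁻¹ * (x * m * x⁻¹)) * w' = w' * (m⁻¹ * (x * m * x⁻¹)) := by
        intro m hm
        set σ := m⁻¹ * (x * m * x⁻¹) with hσ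
        have hσM : σ ∈ M := mul_mem (inv_mem hm) (conj_mem_of_le hM.nx (mem_zpowers x) hm)
        have hfix := mem_cent.mp (hZX (hall _ hxi σ hσM))
        have hkey : ∀ d t : G, d * (x * t * x⁻¹) * d⁻¹ * (x * t * x⁻¹)⁻¹ =
            x * ((x⁻¹ * d * x) * t * (x⁻¹ * d * x)⁻¹ * t⁻¹) * x⁻¹ := fun d t => by group
        have h1 : (x⁻¹ * δ * x) * σ * (x⁻¹ * δ * x)⁻¹ * σ⁻¹ =
            (x * δ * x⁻¹) * σ * (x * δ * x⁻¹)⁻¹ * σ⁻¹ := by
          rw [← hB m hm, hkey δ σ, hfix, mul_inv_cancel_right]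
        rw [hw']
        have h2 : (x⁻¹ * δ * x) * σ * (x⁻¹ * δ * x)⁻¹ = (x * δ * x⁻¹) * σ * (x * δ * x⁻¹)⁻¹ :=
          mul_right_cancel h1
        calc σ * ((x * δ * x⁻¹)⁻¹ * (x⁻¹ * δ * x))
            = (x * δ * x⁻¹)⁻¹ * ((x * δ * x⁻¹) * σ * (x * δ * x⁻¹)⁻¹) * (x⁻¹ * δ * x) := by group
          _ = (x * δ * x⁻¹)⁻¹ * ((x⁻¹ * δ * x) * σ * (x⁻¹ * δ * x)⁻¹) * (x⁻¹ * δ * x) := by rw [h2]
          _ = _ := by group
      have hw1 : w' = 1 := by
        refine hCD w' hw'D fun a ha => ?_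
        have hle : S ≤ centralizer ({w'} : Set G) := by
          rw [hS, commutator_le]
          intro n hn g hg
          obtain ⟨i, rfl⟩ := (isOfFinOrder_of_finite x).mem_powers_iff_mem_zpowers.mpr hg
          rw [mem_centralizer_singleton_iff]
          clear hg
          induction i with
          | zero => simp [commutatorElement_def]
          | succ i ih =>
            have hn' : x ^ i * n * (x ^ i)⁻¹ ∈ M := conj_mem_of_le hM.nx (npow_mem_zpowers x i) hn
            have hb := hσc _ (inv_mem hn')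
            rw [show ⁅n, x ^ (i + 1)⁆ = ⁅n, x ^ i⁆ *
              ((x ^ i * n * (x ^ i)⁻¹)⁻¹⁻¹ * (x * (x ^ i * n * (x ^ i)⁻¹)⁻¹ * x⁻¹)) from by
                rw [pow_succ', commutatorElement_def, commutatorElement_def]; group]
            exact (Commute.mul_left ih hb).eq
        exact mem_centralizer_singleton_iff.mp (hle ha)
      rw [hw'] at hw1
      have h3 : x⁻¹ * δ * x = x * δ * x⁻¹ := (inv_mul_eq_one.mp hw1).symm
      calc (x * x) * δ = x * (x * δ * x⁻¹) * x := by group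
        _ = x * (x⁻¹ * δ * x) * x := by rw [h3]
        _ = _ := by group
    have hδ1 : δ = 1 := by
      obtain ⟨k, hk⟩ : ∃ k : ℕ, (x ^ 2) ^ k = x := exists_pow_eq_self_of_coprime (by
        rw [s.hx]; exact (Nat.coprime_primes Nat.prime_two Fact.out).mpr s.hp2.symm)
      have hδX : δ ∈ centralizer (X : Set G) := by
        refine mem_cent.mpr ?_
        rw [← hk, pow_two]
        exact ((show Commute (x * x) δ from hfixδ).pow_left k).eq
      exact hCD δ hδD fun a ha => hSD1C δ (hD1eq.ge hδD) hδX a ha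
    have hδc : x * d0 = d0 * x := by
      rw [hδ] at hδ1
      calc x * d0 = d0 * (d0⁻¹ * x * d0 * x⁻¹) * x := by group
        _ = _ := by rw [hδ1, mul_one]
    have hDbot : D0 ≤ ⊥ := by
      rw [hD0, D, closure_le]
      rintro _ ⟨i, rfl⟩
      rw [SetLike.mem_coe, mem_bot]
      change y⁻¹ * x ^ i * y * (x ^ i)⁻¹ = 1
      rw [hDeq, mul_assoc d0⁻¹, ((show Commute x d0 from hδc).pow_left i).eq]
      group
    exact hMeq (by rw [← hMD, le_bot_iff.mp hDbot, sup_bot_eq])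
  · -- `D0` acts nontrivially on `M / Z`
    have hK : M ⊔ D1 ≠ H := by
      intro e
      refine hD1eq (le_antisymm hD1D fun d hd => ?_)
      obtain ⟨m, hm, d', hd', e'⟩ := (Coprime.mem_sup_of_le_normalizer ((hD1D.trans hD0H).trans hM.nH)).mp
        (e.ge (hD0H hd))
      have : m = 1 := hDM m (by
        have := mul_mem hd (inv_mem hd'.1)
        rwa [← e', mul_inv_cancel_right] at this) hm
      rwa [← e', this, one_mul]
    have hD1X : ⁅D1, X⁆ = ⊥ := by
      rw [eq_bot_iff]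
      intro c hc
      have hcD1 : c ∈ D1 := Coprime.commutator_le_of_le_normalizer hD1nX hc
      refine mem_bot.mpr (hK1 c hcD1.1 (mem_centralizer_iff.mpr fun m hm => ?_))
      obtain ⟨c', hc', a, ha, rfl⟩ := hsplit m hm
      have h1 : c * c' = c' * c := mem_centralizer_singleton_iff.mp (hCMD1 c' hc' hc)
      have h2 : a * c = c * a := by
        have hz : a * c * a⁻¹ * c⁻¹ ∈ Z := hD1comm c hcD1 a (hSM ha)
        refine commutatorElement_eq_one_iff_commute.mp (htZ _ ?_ hz)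
        refine s.fixed_mem (sup_le hM.le (hD1D.trans hD0H)) hK (le_normalizer_sup hM.nx hD1nX)
          (mem_inf.mpr ⟨?_, hZX hz⟩)
        have hJc : c ∈ ⁅M ⊔ D1, X⁆ := commutator_mono le_sup_right le_rfl hc
        have hJa : a ∈ ⁅M ⊔ D1, X⁆ := commutator_mono le_sup_left le_rfl ha
        exact mul_mem (mul_mem (mul_mem hJa hJc) (inv_mem hJa)) (inv_mem hJc)
      rw [mul_assoc, h2, ← mul_assoc, ← h1, mul_assoc]
    have hD1fix : D1 ≤ centralizer (X : Set G) := commutator_eq_bot_iff_le_centralizer.mp hD1X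
    have hDD1 : D0 ≤ centralizer (D1 : Set G) :=
      (s.D_eq hy).ge.trans (centralizes_of_three (le_centralizer_iff.mp hD1fix)
        ((le_normalizer_iff_commutator_le_left.mp hD1nD).trans hD1fix))
    have hB : Inv x H (M ⊓ centralizer (D1 : Set G)) :=
      ⟨inf_le_left.trans hM.le, hnH (le_normalizer_of_centralizer (hMab.trans
          (centralizer_le (show ((M ⊓ centralizer (D1 : Set G) : Subgroup G) : Set G) ⊆ M from inf_le_left (a := M)))))
        (le_normalizer_inf (hD0H.trans hM.nH) (le_normalizer_centralizer (le_normalizer_of_centralizer hDD1))),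
        le_normalizer_inf hM.nx (le_normalizer_centralizer hD1nX)⟩
    have hD1bot : ∀ c ∈ D1, c = 1 := by
      intro c hc
      have h := hMmin' _ hB (le_inf hZM (inf_le_right.trans
        (centralizer_le (show (D1 : Set G) ⊆ H from hD1D.trans hD0H)))) inf_le_left fun e => hSne ?_
      · exact hK1 c hc.1 (mem_centralizer_iff.mpr fun m hm =>
          (mem_centralizer_iff.mp (mem_inf.mp (h.ge hm)).2 c hc).symm)
      · refine le_bot_iff.mp fun a ha => mem_bot.mpr ?_
        have haZ : a ∈ Z := e.le ⟨hSM ha, mem_centralizer_iff.mpr fun d hd =>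
          (hSD1C d hd (hD1fix hd) a ha).symm⟩
        exact htZ a (hST ⟨ha, hZX haZ⟩) haZ
    have hD0ne : D0 ≠ ⊥ := fun e => hMeq (by rw [← hMD, e, sup_bot_eq])
    obtain ⟨R, hRD, hRne, hR, hRmin⟩ := exists_minimal (inv_self x (hD0X (mem_zpowers x))) hD0ne
    obtain ⟨hRab, r, hr, hrR⟩ := minimal_abelian (Coprime.isSolvable_of_le hD0H s.hsol) hR hRne hRmin
    have := Fact.mk hr
    have hRp : IsPGroup r R := fun a => ⟨1, Subtype.ext (by simpa using hrR a a.2)⟩
    have hRH : R ≤ H := hRD.trans hD0H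
    have hRM : R ≤ normalizer (M : Set G) := hRH.trans hM.nH
    -- `M` is a group of prime power order
    obtain ⟨q, hq, hqM⟩ : ∃ q : ℕ, q.Prime ∧ ∀ l : ℕ, l.Prime → l ∣ Nat.card M → l = q := by
      obtain ⟨q, hq, hqd⟩ := Nat.exists_prime_and_dvd (mt Subgroup.card_eq_one.mp hNne)
      refine ⟨q, hq, fun l hl hlM => ?_⟩
      have := Fact.mk hl
      let Ω : Subgroup G :=
        { carrier := {a | a ∈ M ∧ a ^ l = 1}
          one_mem' := ⟨one_mem _, one_pow _⟩
          mul_mem' := fun {a b} ha hb => ⟨mul_mem ha.1 hb.1, by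
            rw [(show Commute a b from mem_centralizer_iff.mp (hMab hb.1) a ha.1).mul_pow, ha.2, hb.2, one_mul]⟩
          inv_mem' := fun {a} ha => ⟨inv_mem ha.1, by rw [inv_pow, ha.2, inv_one]⟩ }
      have hn : ∀ A : Subgroup G, A ≤ normalizer (M : Set G) → A ≤ normalizer (Ω : Set G) := fun A hA =>
        le_normalizer_of_conj fun g hg a ha => ⟨conj_mem_of_le hA hg ha.1, by
          rw [conj_pow, ha.2, mul_one, mul_inv_cancel]⟩
      obtain ⟨⟨a, ha⟩, hao⟩ := exists_prime_orderOf_dvd_card' l hlM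
      rw [orderOf_mk] at hao
      have hne' : Ω ≠ ⊥ := fun e => by
        have : a ∈ Ω := ⟨ha, hao ▸ pow_orderOf_eq_one a⟩
        rw [e, mem_bot] at this
        rw [this, orderOf_one] at hao
        exact hl.ne_one hao.symm
      have hNΩ := C.least Ω ⟨fun c hc => hM.le hc.1, hn _ hM.nH, hn _ hM.nx⟩ hne'
      have := Fact.mk hq
      obtain ⟨⟨b, hb⟩, hbo⟩ := exists_prime_orderOf_dvd_card' q hqd
      rw [orderOf_mk] at hbo
      have hd := orderOf_dvd_of_pow_eq_one (hNΩ hb).2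
      rw [hbo] at hd
      exact ((Nat.prime_dvd_prime_iff_eq hq hl).mp hd).symm
    have := Fact.mk hq
    have hMq : IsPGroup q M := IsPGroup.of_card (Nat.eq_prime_pow_of_unique_prime_dvd Nat.card_pos.ne'
      fun {l} hl hd => hqM l hl hd)
    have hrq : r ≠ q := by
      intro e
      subst e
      have hp1 : IsPGroup r (R ⊔ M : Subgroup G) := hRp.to_sup_of_normal_right' hMq hRM
      have := hp1.isNilpotent
      obtain ⟨W, hWM, ⟨hWZ, hWM', hWn⟩, hWmin⟩ := Set.Finite.exists_le_minimal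
        (Set.toFinite {W : Subgroup G | ¬ W ≤ Z ∧ W ≤ M ∧ R ⊔ M ≤ normalizer (W : Set G)})
        (a := M) ⟨fun h => hMZ (le_antisymm h hZM), le_rfl, sup_le hRM le_normalizer⟩
      have hlt : ⁅W, R ⊔ M⁆ < W := Coprime.commutator_lt_of_isNilpotent (hWM'.trans le_sup_right)
        (fun e => hWZ (e ▸ bot_le)) hWn
      have hWR : ⁅W, R ⊔ M⁆ ≤ Z := by
        by_contra h
        exact hlt.ne (le_antisymm hlt.le (hWmin ⟨h, hlt.le.trans hWM', normalizer_commutator_ge_right _ _⟩ hlt.le))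
      let B : Subgroup G :=
        { carrier := {m | m ∈ M ∧ ∀ ρ ∈ R, ρ * m * ρ⁻¹ * m⁻¹ ∈ Z}
          one_mem' := ⟨one_mem _, fun ρ _ => by simp⟩
          mul_mem' := fun {a b} ha hb => ⟨mul_mem ha.1 hb.1, fun ρ hρ => by
            have h1 := conj_mem_of_le hZ.nH (hM.le ha.1) (hb.2 ρ hρ)
            have := mul_mem (ha.2 ρ hρ) h1
            simpa [mul_assoc] using this⟩
          inv_mem' := fun {a} ha => ⟨inv_mem ha.1, fun ρ hρ => by
            have h1 := conj_mem_of_le hZ.nH (inv_mem (hM.le ha.1)) (inv_mem (ha.2 ρ hρ))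
            simpa [mul_assoc] using h1⟩ }
      have hBn : ∀ A : Subgroup G, A ≤ normalizer (M : Set G) → A ≤ normalizer (Z : Set G) →
          A ≤ normalizer (R : Set G) → A ≤ normalizer (B : Set G) := fun A hA1 hA2 hA3 =>
        le_normalizer_of_conj fun g hg m hm => ⟨conj_mem_of_le hA1 hg hm.1, fun ρ hρ => by
          have h1 := hm.2 _ (conj_mem_of_le hA3 (inv_mem hg) hρ)
          have := conj_mem_of_le hA2 hg h1
          simpa [mul_assoc] using this⟩
      have hBM : M ≤ normalizer (B : Set G) := le_normalizer_of_centralizer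
        (hMab.trans (centralizer_le (show (B : Set G) ⊆ M from fun m hm => hm.1)))
      have hBinv : Inv x H B := ⟨fun m hm => hM.le hm.1,
        hnH hBM (hBn D0 (hD0H.trans hM.nH) (hD0H.trans hZ.nH) hR.nH), hBn X hM.nx hZ.nx hR.nx⟩
      have hBeq := hMmin' B hBinv (fun z hz => ⟨hZM hz, fun ρ hρ => by
          rw [hZcomm z hz ρ (hRH hρ), mul_inv_cancel_right, mul_inv_cancel]; exact one_mem _⟩)
        (fun m hm => hm.1) fun e => hWZ fun a ha => e.le ⟨hWM' ha, fun ρ hρ => by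
          have := hWR (commutator_mem_commutator ha (mem_sup_left hρ))
          simpa [commutatorElement_def, mul_assoc] using inv_mem this⟩
      exact hRne (le_bot_iff.mp fun ρ hρ => mem_bot.mpr (hD1bot ρ ⟨hRD hρ, fun m hm => (hBeq.ge hm).2 ρ hρ⟩))
    obtain ⟨kR, hkR⟩ := IsPGroup.iff_card.mp hRp
    obtain ⟨kM, hkM⟩ := IsPGroup.iff_card.mp hMq
    have hcopRM : (Nat.card R).Coprime (Nat.card M) := by
      rw [hkR, hkM]; exact Nat.Coprime.pow _ _ ((Nat.coprime_primes hr hq).mpr hrq)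
    have hBinv : Inv x H (M ⊓ centralizer (R : Set G)) :=
      ⟨inf_le_left.trans hM.le, hnH (le_normalizer_of_centralizer (hMab.trans
          (centralizer_le (show ((M ⊓ centralizer (R : Set G) : Subgroup G) : Set G) ⊆ M from inf_le_left (a := M)))))
        (le_normalizer_inf (hD0H.trans hM.nH) (le_normalizer_centralizer hR.nH)),
        le_normalizer_inf hM.nx (le_normalizer_centralizer hR.nx)⟩
    have hZB : Z ≤ M ⊓ centralizer (R : Set G) :=
      le_inf hZM (inf_le_right.trans (centralizer_le (show (R : Set G) ⊆ H from hRH)))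
    by_cases hBZ : M ⊓ centralizer (R : Set G) = Z
    · have hA := Coprime.inf_centralizer_inf_commutator hRM hcopRM
      have hAM : ⁅M, R⁆ ≤ M := Coprime.commutator_le_of_le_normalizer hRM
      have hAinv : Inv x H ⁅M, R⁆ :=
        ⟨hAM.trans hM.le, hnH (le_normalizer_of_centralizer (hMab.trans (centralizer_le
            (show ((⁅M, R⁆ : Subgroup G) : Set G) ⊆ M from hAM))))
          (le_normalizer_commutator (hD0H.trans hM.nH) hR.nH), le_normalizer_commutator hM.nx hR.nx⟩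
      by_cases hA0 : ⁅M, R⁆ = ⊥
      · refine hMZ (le_antisymm ?_ hZM)
        rw [← hBZ]
        exact le_inf le_rfl (commutator_eq_bot_iff_le_centralizer.mp hA0)
      · refine hNne (le_bot_iff.mp ?_)
        rw [← hA]
        have h1 := C.least _ hAinv hA0
        refine le_inf ?_ h1
        rw [hBZ]
        exact le_inf C.inv.le C.cen
    · have hBM := hMmin' _ hBinv hZB inf_le_left hBZ
      exact hRne (le_bot_iff.mp fun ρ hρ => mem_bot.mpr (hK1 ρ (hRD hρ)
        (mem_centralizer_iff.mpr fun m hm => (mem_centralizer_iff.mp (mem_inf.mp (hBM.ge hm)).2 ρ hρ).symm)))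

/-- The theorem. -/
theorem commutator_inf_centralizer_le : ∀ (n : ℕ) {G : Type u} [Group G] [Finite G] (x : G)
    (H : Subgroup G), Nat.card H ≤ n → orderOf x = p → p ≠ 2 → x ∈ normalizer (H : Set G) →
    Group.IsSolvable H → ¬ p ∣ Nat.card H →
    ⁅H, zpowers x⁆ ⊓ centralizer (zpowers x : Set G) ≤ T x H := by
  intro n
  induction n using Nat.strong_induction_on with
  | _ n ih =>
  intro G _ _ x H hn hx hp hxH hsol hcop
  have IH : Smaller.{u} p (Nat.card H) := fun y K hK h1 h2 h3 h4 =>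
    ih (Nat.card K) (lt_of_lt_of_le hK hn) y K le_rfl h1 hp h2 h3 h4
  have hX : zpowers x ≤ normalizer (H : Set G) := zpowers_le.mpr hxH
  have hle := Coprime.commutator_le_of_le_normalizer hX
  by_cases hH : ⁅H, zpowers x⁆ = H
  · have s : Setup p x H := ⟨hx, hp, hxH, hsol, hcop, hH, IH⟩
    rw [hH]
    intro w hw
    by_contra hwT
    obtain ⟨N, hN⟩ := exists_central s hw hwT
    exact hN.false hw hwT
  · have hlt : Nat.card ↥⁅H, zpowers x⁆ < Nat.card H := by
      by_contra h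
      exact hH (eq_of_le_of_card_ge hle (not_lt.mp h))
    have h := IH x ⁅H, zpowers x⁆ hlt hx (normalizer_commutator_ge_right _ _ (mem_zpowers x))
      (Coprime.isSolvable_of_le hle hsol) (fun hd => hcop (hd.trans (card_dvd_of_le hle)))
    rw [Coprime.commutator_commutator_eq hX (coprime_zpowers hx Fact.out hcop)
      (Or.inl (solvable_zpowers x))] at h
    exact h.trans (T_mono hle)

end Cfsg.Agent.LocalFlavell.CommutatorFixed
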