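import Cfsg.Agent.Lib.Coprime.Commutator
import Cfsg.Agent.Lib.Coprime.Sylow
import Cfsg.Agent.Lib.Coprime.PGroup
import Cfsg.Agent.OddLocal.FrobeniusFormula

/-!
An element `x` of odd prime order acting coprimely on a solvable group `H`: the fixed points of `x`
in `[H, x]` are generated by the fixed points in the subgroups `[h, ⟨x⟩]`, `h ∈ H`.
-/

set_option autoImplicit false

namespace Cfsg.Agent.LocalFlavell.CommutatorFixed

open Subgroup
open scoped Pointwise commutatorElement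

universe u

variable {G : Type u} [Group G]

/-- The subgroup generated by the `[h, x^i]`. -/
def D (x h : G) : Subgroup G :=
  closure (Set.range fun i : ℕ => h⁻¹ * x ^ i * h * (x ^ i)⁻¹)

/-- The subgroup generated by the fixed points in the `D x h`. -/
def T (x : G) (H : Subgroup G) : Subgroup G :=
  ⨆ h ∈ H, D x h ⊓ centralizer (zpowers x : Set G)

theorem mem_D (x h : G) (i : ℕ) : h⁻¹ * x ^ i * h * (x ^ i)⁻¹ ∈ D x h :=
  subset_closure ⟨i, rfl⟩

theorem mem_D_one (x h : G) : h⁻¹ * x * h * x⁻¹ ∈ D x h := by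
  simpa using mem_D x h 1

theorem mem_cent {x g : G} : g ∈ centralizer (zpowers x : Set G) ↔ x * g = g * x := by
  refine mem_centralizer_iff.trans ⟨fun h => h x (mem_zpowers x), fun h a ha => ?_⟩
  obtain ⟨k, rfl⟩ := mem_zpowers_iff.mp ha
  exact (Commute.zpow_left (show Commute x g from h) k).eq

theorem D_le {x h : G} {H : Subgroup G} (hx : x ∈ normalizer (H : Set G)) (hh : h ∈ H) : D x h ≤ H := by
  rw [D, closure_le]
  rintro _ ⟨i, rfl⟩
  have := (mem_normalizer_iff.mp (pow_mem hx i) h).mp hh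
  simpa [mul_assoc] using mul_mem (inv_mem hh) this

theorem D_normalizer (x h : G) [Finite G] : zpowers x ≤ normalizer (D x h : Set G) := by
  rw [zpowers_le]
  refine mem_normalizer_fintype fun d hd => ?_
  rw [D] at hd
  induction hd using closure_induction with
  | mem d hd =>
    obtain ⟨i, rfl⟩ := hd
    have e : x * (h⁻¹ * x ^ i * h * (x ^ i)⁻¹) * x⁻¹ =
        (h⁻¹ * x * h * x⁻¹)⁻¹ * (h⁻¹ * x ^ (i + 1) * h * (x ^ (i + 1))⁻¹) := by
      rw [pow_succ']; group
    rw [e]
    exact mul_mem (inv_mem (mem_D_one x h)) (mem_D x h (i + 1))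
  | one => simp
  | mul a b _ _ ha hb => simpa [mul_assoc] using mul_mem ha hb
  | inv a _ ha => simpa [mul_assoc] using inv_mem ha

theorem D_le_commutator {x h : G} {H : Subgroup G} (hh : h ∈ H) : D x h ≤ ⁅H, zpowers x⁆ := by
  rw [D, closure_le]
  rintro _ ⟨i, rfl⟩
  have := commutator_mem_commutator (inv_mem hh) (npow_mem_zpowers x i)
  simpa [commutatorElement_def] using this

theorem commutator_le_of_D [Finite G] {x : G} {H K : Subgroup G} (hK : ∀ h ∈ H, D x h ≤ K) :
    ⁅H, zpowers x⁆ ≤ K := by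
  rw [commutator_le]
  intro h hh a ha
  obtain ⟨i, rfl⟩ := (isOfFinOrder_of_finite x).mem_powers_iff_mem_zpowers.mpr ha
  have := hK _ (inv_mem hh) (mem_D x h⁻¹ i)
  simpa [commutatorElement_def] using this

theorem le_T {x h c : G} {H : Subgroup G} (hh : h ∈ H) (hc : c ∈ D x h)
    (hcx : c ∈ centralizer (zpowers x : Set G)) : c ∈ T x H :=
  le_iSup₂ (f := fun h (_ : h ∈ H) => D x h ⊓ centralizer (zpowers x : Set G)) h hh ⟨hc, hcx⟩

theorem T_mono {x : G} {H K : Subgroup G} (hHK : H ≤ K) : T x H ≤ T x K :=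
  iSup₂_le fun _ hh => fun _ hc => le_T (hHK hh) hc.1 hc.2

theorem T_le_cent (x : G) (H : Subgroup G) : T x H ≤ centralizer (zpowers x : Set G) :=
  iSup₂_le fun _ _ => inf_le_right

theorem T_le {x : G} {H : Subgroup G} (hx : x ∈ normalizer (H : Set G)) : T x H ≤ H :=
  iSup₂_le fun _ hh => inf_le_left.trans (D_le hx hh)

theorem T_conj {x c : G} {H : Subgroup G} (hcH : c ∈ H) (hcx : x * c = c * x) {t : G}
    (ht : t ∈ T x H) : c * t * c⁻¹ ∈ T x H := by
  have hle : T x H ≤ (T x H).comap (MulAut.conj c).toMonoidHom := by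
    refine iSup₂_le fun h hh d hd => ?_
    rw [mem_comap]
    change c * d * c⁻¹ ∈ T x H
    obtain ⟨hd1, hd2⟩ := mem_inf.mp hd
    refine le_T (h := h * c⁻¹) (mul_mem hh (inv_mem hcH)) ?_ ?_
    · have hmap : D x h ≤ (D x (h * c⁻¹)).comap (MulAut.conj c).toMonoidHom := by
        rw [D, closure_le]
        rintro _ ⟨i, rfl⟩
        rw [SetLike.mem_coe, mem_comap]
        change c * (h⁻¹ * x ^ i * h * (x ^ i)⁻¹) * c⁻¹ ∈ D x (h * c⁻¹)
        have hci : Commute (x ^ i)⁻¹ c⁻¹ := ((show Commute x c from hcx).pow_left i).inv_inv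
        have e : c * (h⁻¹ * x ^ i * h * (x ^ i)⁻¹) * c⁻¹ =
            (h * c⁻¹)⁻¹ * x ^ i * (h * c⁻¹) * (x ^ i)⁻¹ := by
          simp only [mul_assoc, mul_inv_rev, inv_inv, hci.eq]
        rw [e]
        exact mem_D x _ i
      exact hmap hd1
    · exact mul_mem (mul_mem (mem_cent.mpr hcx) hd2) (inv_mem (mem_cent.mpr hcx))
  exact hle ht

variable {p : ℕ} [Fact p.Prime]

omit [Fact p.Prime] in
theorem coprime_zpowers [Finite G] {x : G} {H : Subgroup G} (hx : orderOf x = p) (hp : p.Prime)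
    (hH : ¬ p ∣ Nat.card H) : (Nat.card (zpowers x)).Coprime (Nat.card H) := by
  rw [Nat.card_zpowers, hx]; exact hp.coprime_iff_not_dvd.mpr hH

theorem solvable_zpowers (x : G) : Group.IsSolvable (zpowers x) :=
  Coprime.isSolvable_of_isMulCommutative _

/-- `D = [D, x]`. -/
theorem D_eq [Finite G] {x h : G} (hx : orderOf x = p) (hcop : ¬ p ∣ Nat.card (D x h)) :
    ⁅D x h, zpowers x⁆ = D x h := by
  have hN := D_normalizer x h
  refine le_antisymm (Coprime.commutator_le_of_le_normalizer hN) ?_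
  set A := ⁅D x h, zpowers x⁆ with hA
  have hAD : D x h ≤ normalizer (A : Set G) := normalizer_commutator_ge_left _ _
  have hAX : zpowers x ≤ normalizer (A : Set G) := normalizer_commutator_ge_right _ _
  obtain ⟨c, hc, a, ha, hca⟩ := Coprime.exists_eq_centralizer_mul_commutator hN
    (coprime_zpowers hx (Fact.out) hcop) (Or.inl (solvable_zpowers x)) (mem_D_one x h)
  obtain ⟨hcD, hcx⟩ := mem_inf.mp hc
  have hcomm : Commute x c := mem_cent.mp hcx
  have hw : ∀ k : ℕ, ∃ b ∈ A, (c * a * x) ^ k = b * c ^ k * x ^ k := by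
    intro k
    induction k with
    | zero => exact ⟨1, one_mem _, by simp⟩
    | succ k ih =>
      obtain ⟨b, hb, e⟩ := ih
      have hb' : x * b * x⁻¹ ∈ A := (mem_normalizer_iff.mp (hAX (mem_zpowers x)) b).mp hb
      refine ⟨c * (a * (x * b * x⁻¹)) * c⁻¹, (mem_normalizer_iff.mp (hAD hcD) _).mp (mul_mem ha hb'), ?_⟩
      have hxc : x * c ^ k = c ^ k * x := (hcomm.pow_right k).eq
      rw [pow_succ', e, pow_succ' c, pow_succ' x]
      calc c * a * x * (b * c ^ k * x ^ k) = c * a * (x * b * x⁻¹) * (x * c ^ k) * x ^ k := by group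
        _ = c * a * (x * b * x⁻¹) * (c ^ k * x) * x ^ k := by rw [hxc]
        _ = _ := by group
  have hcA : c ∈ A := by
    obtain ⟨b, hb, e⟩ := hw p
    have h1 : (c * a * x) ^ p = 1 := by
      rw [← hca, inv_mul_cancel_right]
      have h2 : h⁻¹ * x * h = MulAut.conj h⁻¹ x := by simp
      rw [h2, ← map_pow, ← hx, pow_orderOf_eq_one, map_one]
    rw [h1, ← hx, pow_orderOf_eq_one, mul_one, hx] at e
    have h2 : c ^ p ∈ A := by
      rw [show c ^ p = b⁻¹ from eq_inv_of_mul_eq_one_right e.symm]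
      exact inv_mem hb
    have hcc : p.Coprime (orderOf c) := (Fact.out : p.Prime).coprime_iff_not_dvd.mpr fun hd =>
      hcop (hd.trans ((D x h).orderOf_dvd_natCard hcD))
    obtain ⟨m, hm⟩ := exists_pow_eq_self_of_coprime hcc
    rw [← hm]; exact pow_mem h2 m
  rw [D, closure_le]
  rintro _ ⟨i, rfl⟩
  change h⁻¹ * x ^ i * h * (x ^ i)⁻¹ ∈ A
  induction i with
  | zero => simp
  | succ i ih =>
    have e : h⁻¹ * x ^ (i + 1) * h * (x ^ (i + 1))⁻¹ =
        (h⁻¹ * x * h * x⁻¹) * (x * (h⁻¹ * x ^ i * h * (x ^ i)⁻¹) * x⁻¹) := by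
      rw [pow_succ']; group
    rw [e, hca]
    exact mul_mem (mul_mem hcA ha) ((mem_normalizer_iff.mp (hAX (mem_zpowers x)) _).mp ih)

theorem map_D {L : Type u} [Group L] (f : G →* L) (x h : G) : (D x h).map f = D (f x) (f h) := by
  rw [D, D, MonoidHom.map_closure, ← Set.range_comp]
  congr 2
  funext i
  simp

theorem map_T_le {L : Type u} [Group L] (f : G →* L) (x : G) (H : Subgroup G) :
    (T x H).map f ≤ T (f x) (H.map f) := by
  rw [map_le_iff_le_comap]
  refine iSup₂_le fun h hh d hd => ?_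
  rw [mem_comap]
  refine le_T (mem_map_of_mem f hh) (map_D f x h ▸ mem_map_of_mem f (mem_inf.mp hd).1) ?_
  rw [mem_cent, ← map_mul, ← map_mul, mem_cent.mp (mem_inf.mp hd).2]

theorem T_map_le [Finite G] {L : Type u} [Group L] (f : G →* L) {x : G} {H : Subgroup G}
    (hx : orderOf x = p) (hxH : x ∈ normalizer (H : Set G)) (hcop : ¬ p ∣ Nat.card H) :
    T (f x) (H.map f) ≤ (T x H).map f := by
  refine iSup₂_le ?_
  rintro _ ⟨h, hh, rfl⟩
  have hDcop : ¬ p ∣ Nat.card (D x h) := fun hd => hcop (hd.trans (card_dvd_of_le (D_le hxH hh)))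
  have := Coprime.map_inf_centralizer f (D_normalizer x h) (coprime_zpowers hx Fact.out hDcop)
    (Or.inl (solvable_zpowers x))
  rw [← map_D f x h, ← MonoidHom.map_zpowers f x, ← this]
  exact map_mono fun d hd => le_T hh hd.1 hd.2

end Cfsg.Agent.LocalFlavell.CommutatorFixed
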