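import Cfsg.Agent.Lib.Coprime.Commutator
import Cfsg.Agent.Lib.Coprime.Generation

/-!
A group `L` acting irreducibly on an abelian group, with a normal `p`-subgroup `P`: systems of
imprimitivity, all inside an ambient group.
-/

set_option autoImplicit false

namespace Cfsg.Agent.LocalFlavell.BaerSuzuki

open Subgroup
open scoped Pointwise

universe u

variable {G : Type u} [Group G]

/-- `L` acts irreducibly on the abelian group `V`, `P` is a normal `p`-subgroup of `L`. -/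
structure Act (p : ℕ) (V P L : Subgroup G) : Prop where
  comm : ∀ a ∈ V, ∀ b ∈ V, a * b = b * a
  nV : L ≤ normalizer (V : Set G)
  nP : L ≤ normalizer (P : Set G)
  PL : P ≤ L
  isP : IsPGroup p P
  cop : ¬ p ∣ Nat.card V
  ne : V ≠ ⊥
  irr : ∀ U : Subgroup G, U ≤ V → L ≤ normalizer (U : Set G) → U = ⊥ ∨ U = V

/-- Some vector is fixed by no conjugate of `a`. -/
def Escapes (V L : Subgroup G) (a : G) : Prop :=
  ∃ v ∈ V, ∀ l ∈ L, ¬ Commute (l * a * l⁻¹) v

/-- The conjugates of `W` under `L`. -/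
def orb (L W : Subgroup G) : Set (Subgroup G) := {U | ∃ l ∈ L, U = MulAut.conj l • W}

/-- A system of imprimitivity. -/
structure Block (V L W : Subgroup G) : Prop where
  le : W ≤ V
  ne : W ≠ ⊥
  ne_top : W ≠ V
  indep : ∀ S : Set (Subgroup G), S ⊆ orb L W → sSup S ⊓ sSup (orb L W \ S) = ⊥

theorem self_mem_orb (L W : Subgroup G) : W ∈ orb L W :=
  ⟨1, one_mem _, (Coprime.conj_smul_one W).symm⟩

theorem conj_mem_orb {L W U : Subgroup G} (hU : U ∈ orb L W) {l : G} (hl : l ∈ L) :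
    MulAut.conj l • U ∈ orb L W := by
  obtain ⟨m, hm, rfl⟩ := hU
  exact ⟨l * m, mul_mem hl hm, (Coprime.conj_smul_mul l m W).symm⟩

theorem smul_le_iff {g : G} {A B : Subgroup G} :
    MulAut.conj g • A ≤ B ↔ ∀ x ∈ A, g * x * g⁻¹ ∈ B := by
  refine ⟨fun h x hx => h (Coprime.conj_mem_conj_smul hx), fun h x hx => ?_⟩
  have := h _ (Coprime.mem_conj_smul.mp hx)
  simpa [mul_assoc] using this

theorem smul_le_self [Finite G] {g : G} {A : Subgroup G} (h : MulAut.conj g • A ≤ A) :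
    g ∈ normalizer (A : Set G) :=
  mem_normalizer_fintype fun x hx => h (Coprime.conj_mem_conj_smul hx)

theorem orb_le {V L W : Subgroup G} (hnV : L ≤ normalizer (V : Set G)) (hW : W ≤ V) {U : Subgroup G}
    (hU : U ∈ orb L W) : U ≤ V := by
  obtain ⟨l, hl, rfl⟩ := hU
  exact smul_le_iff.mpr fun x hx => (mem_normalizer_iff.mp (hnV hl) x).mp (hW hx)

theorem sSup_orb_le {V L W : Subgroup G} (hnV : L ≤ normalizer (V : Set G)) (hW : W ≤ V)
    {S : Set (Subgroup G)} (hS : S ⊆ orb L W) : sSup S ≤ V :=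
  sSup_le fun _ hU => orb_le hnV hW (hS hU)

theorem smul_sSup (g : G) (S : Set (Subgroup G)) :
    MulAut.conj g • sSup S = sSup ((fun U => MulAut.conj g • U) '' S) := by
  refine le_antisymm ?_ (sSup_le ?_)
  · refine Subgroup.pointwise_smul_subset_iff.mpr (sSup_le fun U hU => ?_)
    refine Subgroup.subset_pointwise_smul_iff.mpr ?_
    rw [inv_inv]
    exact le_sSup ⟨U, hU, rfl⟩
  · rintro _ ⟨U, hU, rfl⟩
    exact Subgroup.pointwise_smul_le_pointwise_smul_iff.mpr (le_sSup hU)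

theorem sSup_orb_eq [Finite G] {p : ℕ} {V P L W : Subgroup G} (A : Act p V P L) (hW : W ≤ V)
    (hne : W ≠ ⊥) : sSup (orb L W) = V := by
  refine (A.irr _ (sSup_orb_le A.nV hW le_rfl) fun l hl => smul_le_self ?_).resolve_left
    fun h => hne (le_bot_iff.mp ((le_sSup (self_mem_orb L W)).trans h.le))
  rw [smul_sSup]
  refine sSup_le_sSup ?_
  rintro _ ⟨U, hU, rfl⟩
  exact conj_mem_orb hU hl

theorem Block.disjoint {V L W U U' : Subgroup G} (hB : Block V L W) (hU : U ∈ orb L W)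
    (hU' : U' ∈ orb L W) (hne : U ≠ U') : U ⊓ U' = ⊥ := by
  rw [← le_bot_iff, ← hB.indep {U} (Set.singleton_subset_iff.mpr hU)]
  exact inf_le_inf (le_sSup rfl) (le_sSup ⟨hU', fun e => hne e.symm⟩)

theorem Block.inf_sSup {V L W U : Subgroup G} (hB : Block V L W) (hU : U ∈ orb L W)
    {S : Set (Subgroup G)} (hS : S ⊆ orb L W) (hUS : U ∉ S) : U ⊓ sSup S = ⊥ := by
  rw [← le_bot_iff, ← hB.indep S hS, inf_comm]
  exact inf_le_inf le_rfl (le_sSup ⟨hU, hUS⟩)

theorem Block.ne_of_mem {V L W U : Subgroup G} (hB : Block V L W) (hU : U ∈ orb L W) : U ≠ ⊥ := by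
  obtain ⟨l, -, rfl⟩ := hU
  intro e
  apply hB.ne
  have := congrArg (fun K => MulAut.conj l⁻¹ • K) e
  simpa [Coprime.conj_inv_smul_smul, Subgroup.smul_bot] using this

/-- For a maximal block the stabiliser is a maximal subgroup. -/
theorem Block.coarsen [Finite G] {p : ℕ} {V P L W L2 : Subgroup G} (A : Act p V P L)
    (hB : Block V L W) (h1 : L ⊓ normalizer (W : Set G) < L2) (h2 : L2 < L) :
    ∃ W', Block V L W' ∧ W < W' := by
  set T2 : Set (Subgroup G) := {U | ∃ m ∈ L2, U = MulAut.conj m • W} with hT2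
  have hT2sub : T2 ⊆ orb L W := fun U ⟨m, hm, e⟩ => ⟨m, h2.le hm, e⟩
  have hW2 : W ∈ T2 := ⟨1, one_mem _, (Coprime.conj_smul_one W).symm⟩
  set W' := sSup T2 with hW'
  have hcoset : ∀ {l : G}, l ∈ L → ∀ {n : G}, n ∈ L → ∀ {U : Subgroup G},
      U ∈ (fun U => MulAut.conj l • U) '' T2 → U ∈ (fun U => MulAut.conj n • U) '' T2 → l⁻¹ * n ∈ L2 := by
    rintro l hl n hn U ⟨_, ⟨m, hm, rfl⟩, rfl⟩ ⟨_, ⟨m', hm', rfl⟩, e⟩
    simp only [← Coprime.conj_smul_mul] at e
    have h3 : (l * m)⁻¹ * (n * m') ∈ L ⊓ normalizer (W : Set G) := by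
      refine mem_inf.mpr ⟨mul_mem (inv_mem (mul_mem hl (h2.le hm))) (mul_mem hn (h2.le hm')), ?_⟩
      rw [← Coprime.conj_smul_eq_self_iff, Coprime.conj_smul_mul, e, Coprime.conj_inv_smul_smul]
    have := mul_mem (mul_mem hm (h1.le h3)) (inv_mem hm')
    simpa [mul_assoc] using this
  have hdisj : ∀ {X X' : Subgroup G}, X ∈ orb L W' → X' ∈ orb L W' → X ≠ X' → X ⊓ X' = ⊥ := by
    rintro X X' ⟨l, hl, rfl⟩ ⟨n, hn, rfl⟩ hne
    have hl' : (fun U => MulAut.conj l • U) '' T2 ⊆ orb L W := by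
      rintro _ ⟨U, hU, rfl⟩; exact conj_mem_orb (hT2sub hU) hl
    rw [← le_bot_iff, ← hB.indep _ hl', hW', smul_sSup, smul_sSup]
    refine inf_le_inf le_rfl (sSup_le_sSup ?_)
    intro U hU
    refine ⟨by obtain ⟨V', hV', rfl⟩ := hU; exact conj_mem_orb (hT2sub hV') hn, fun hUl => hne ?_⟩
    have hd := hcoset hl hn hUl hU
    have hfix : MulAut.conj (l⁻¹ * n) • W' = W' := by
      refine le_antisymm ?_ ?_
      · rw [hW', smul_sSup]
        refine sSup_le_sSup ?_
        rintro _ ⟨_, ⟨m, hm, rfl⟩, rfl⟩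
        exact ⟨_, mul_mem hd hm, (Coprime.conj_smul_mul _ _ W).symm⟩
      · refine Subgroup.subset_pointwise_smul_iff.mpr ?_
        rw [hW', ← map_inv, smul_sSup]
        refine sSup_le_sSup ?_
        rintro _ ⟨_, ⟨m, hm, rfl⟩, rfl⟩
        exact ⟨_, mul_mem (inv_mem hd) hm, (Coprime.conj_smul_mul _ _ W).symm⟩
    calc MulAut.conj l • W' = MulAut.conj l • MulAut.conj (l⁻¹ * n) • W' := by rw [hfix]
      _ = MulAut.conj n • W' := by rw [← Coprime.conj_smul_mul, mul_inv_cancel_left]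
  have hW'V : W' ≤ V := sSup_orb_le A.nV hB.le hT2sub
  have hWW' : W ≤ W' := le_sSup hW2
  refine ⟨W', ⟨hW'V, fun e => hB.ne (le_bot_iff.mp (e ▸ hWW')), fun e => ?_, fun S' hS' => ?_⟩,
    lt_of_le_of_ne hWW' fun e => ?_⟩
  · obtain ⟨n, hn, hnT⟩ := SetLike.exists_of_lt h2
    have hUo : MulAut.conj n • W ∈ orb L W := ⟨n, hn, rfl⟩
    refine hB.ne_of_mem hUo (le_bot_iff.mp ?_)
    rw [← hB.inf_sSup hUo hT2sub ?_]
    · exact le_inf le_rfl ((orb_le A.nV hB.le hUo).trans (e.ge.trans le_rfl))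
    · rintro ⟨m, hm, e'⟩
      refine hnT ?_
      have h3 : m⁻¹ * n ∈ L ⊓ normalizer (W : Set G) := by
        refine mem_inf.mpr ⟨mul_mem (inv_mem (h2.le hm)) hn, ?_⟩
        rw [← Coprime.conj_smul_eq_self_iff, Coprime.conj_smul_mul, e', Coprime.conj_inv_smul_smul]
      simpa using mul_mem hm (h1.le h3)
  · set S : Set (Subgroup G) := {U | U ∈ orb L W ∧ ∃ X ∈ S', U ≤ X} with hS
    rw [← le_bot_iff, ← hB.indep S fun U hU => hU.1]
    have hmem : ∀ {X : Subgroup G}, X ∈ orb L W' → ∃ S0 ⊆ orb L W, X = sSup S0 := by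
      rintro X ⟨l, hl, rfl⟩
      refine ⟨(fun U => MulAut.conj l • U) '' T2, ?_, smul_sSup l T2⟩
      rintro _ ⟨U, hU, rfl⟩
      exact conj_mem_orb (hT2sub hU) hl
    refine inf_le_inf (sSup_le fun X hX => ?_) (sSup_le fun X hX => ?_)
    · obtain ⟨S0, hS0, rfl⟩ := hmem (hS' hX)
      exact sSup_le fun U hU => le_sSup ⟨hS0 hU, _, hX, le_sSup hU⟩
    · obtain ⟨S0, hS0, rfl⟩ := hmem hX.1
      refine sSup_le fun U hU => le_sSup ⟨hS0 hU, ?_⟩
      rintro ⟨-, Y, hY, hUY⟩
      refine hB.ne_of_mem (hS0 hU) (le_bot_iff.mp ?_)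
      rw [← hdisj hX.1 (hS' hY) (fun e => hX.2 (by rw [e]; exact hY))]
      exact le_inf (le_sSup hU) hUY
  · obtain ⟨m, hm, hmW⟩ := SetLike.exists_of_lt h1
    have hUo : MulAut.conj m • W ∈ T2 := ⟨m, hm, rfl⟩
    have hne : MulAut.conj m • W ≠ W := fun e' =>
      hmW (mem_inf.mpr ⟨h2.le hm, Coprime.conj_smul_eq_self_iff.mp e'⟩)
    refine hB.ne_of_mem (hT2sub hUo) (le_bot_iff.mp ?_)
    rw [← hB.disjoint (hT2sub hUo) (self_mem_orb L W) hne]
    exact le_inf le_rfl ((le_sSup hUo).trans e.ge)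

/-- A maximal block with everything needed for the induction. -/
theorem exists_max_block [Finite G] {V L W0 : Subgroup G} (h : Block V L W0) :
    ∃ W, Block V L W ∧ ∀ W', Block V L W' → ¬ W < W' := by
  obtain ⟨W, -, hW, hmax⟩ := Set.Finite.exists_le_maximal
    (Set.toFinite {W : Subgroup G | Block V L W}) (a := W0) h
  exact ⟨W, hW, fun W' hW' hlt => hlt.not_ge (hmax hW' hlt.le)⟩

/-- The case of a system of imprimitivity, given the result in smaller dimension. -/
theorem escapes_of_block [Finite G] {p : ℕ} [Fact p.Prime] {V P L W0 : Subgroup G} (A : Act p V P L)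
    (hB0 : Block V L W0) {a : G} (ha : a ∈ P) (hap : a ^ p = 1) (haV : a ∉ centralizer (V : Set G))
    (IH : ∀ W P1 L1 : Subgroup G, W < V → Act p W P1 L1 → ∀ c ∈ P1, c ^ p = 1 →
      c ∉ centralizer (W : Set G) → Escapes W L1 c) : Escapes V L a := by
  obtain ⟨W, hB, hmax⟩ := exists_max_block hB0
  set L1 := L ⊓ normalizer (W : Set G) with hL1
  have hsup := sSup_orb_eq A hB.le hB.ne
  have hL1L : L1 ≠ L := by
    intro e
    rcases A.irr W hB.le (e.ge.trans inf_le_right) with h | h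
    · exact hB.ne h
    · exact hB.ne_top h
  -- the part of `P` in the stabiliser is normal in `L`
  have hK : L ≤ normalizer ((P ⊓ L1 : Subgroup G) : Set G) := by
    have h1 : L1 ≤ normalizer ((P ⊓ L1 : Subgroup G) : Set G) :=
      le_trans (le_inf (inf_le_left.trans A.nP) le_normalizer) inf_normalizer_le_normalizer_inf
    by_contra hcon
    have heq : L ⊓ normalizer ((P ⊓ L1 : Subgroup G) : Set G) = L1 := by
      refine (eq_of_le_of_not_lt (le_inf inf_le_left h1) fun hlt => ?_).symm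
      have h2 : L ⊓ normalizer ((P ⊓ L1 : Subgroup G) : Set G) < L :=
        lt_of_le_of_ne inf_le_left fun e => hcon (e.ge.trans inf_le_right)
      obtain ⟨W', hW', hlt'⟩ := hB.coarsen A hlt h2
      exact hmax W' hW' hlt'
    have hP1 : P ≤ L1 := by
      by_contra hP
      have := A.isP.isNilpotent
      have hne : (P ⊓ L1).subgroupOf P ≠ ⊤ := fun e =>
        hP ((subgroupOf_eq_top.mp e).trans inf_le_right)
      have hlt := Group.normalizerCondition_of_isNilpotent ((P ⊓ L1).subgroupOf P) (lt_top_iff_ne_top.mpr hne)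
      obtain ⟨g, hg1, hg2⟩ := SetLike.exists_of_lt hlt
      rw [← subgroupOf_normalizer_eq inf_le_left, mem_subgroupOf] at hg1
      have : (g : G) ∈ L1 := heq.le (mem_inf.mpr ⟨A.PL g.2, hg1⟩)
      exact hg2 (mem_subgroupOf.mpr (mem_inf.mpr ⟨g.2, this⟩))
    exact hcon (by rw [inf_eq_left.mpr hP1]; exact A.nP)
  have hKfix : ∀ k ∈ P ⊓ L1, ∀ U ∈ orb L W, k ∈ normalizer (U : Set G) := by
    rintro k hk U ⟨l, hl, rfl⟩
    rw [← Coprime.conj_smul_normalizer, Coprime.mem_conj_smul]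
    have h1 := (mem_normalizer_iff.mp (hK (inv_mem hl)) k).mp hk
    rw [inv_inv] at h1
    exact (mem_inf.mp (mem_inf.mp h1).2).2
  by_cases haK : a ∈ P ⊓ L1
  · have hconjK : ∀ l ∈ L, l * a * l⁻¹ ∈ P ⊓ L1 := fun l hl => (mem_normalizer_iff.mp (hK hl) a).mp haK
    obtain ⟨l0, hl0, hc0⟩ : ∃ l ∈ L, l * a * l⁻¹ ∉ centralizer (W : Set G) := by
      by_contra hcon
      push Not at hcon
      refine haV ?_
      have hle : V ≤ centralizer ({a} : Set G) := by
        rw [← hsup]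
        refine sSup_le ?_
        rintro _ ⟨l, hl, rfl⟩
        refine smul_le_iff.mpr fun x hx => mem_centralizer_singleton_iff.mpr ?_
        have := mem_centralizer_iff.mp (hcon l⁻¹ (inv_mem hl)) x hx
        calc l * x * l⁻¹ * a = l * (x * (l⁻¹ * a * l⁻¹⁻¹)) * l⁻¹ := by group
          _ = _ := by rw [this]; group
      exact mem_centralizer_iff.mpr fun x hx => mem_centralizer_singleton_iff.mp (hle hx)
    have hact : Act p W (P ⊓ L1) L1 :=
      { comm := fun x hx y hy => A.comm x (hB.le hx) y (hB.le hy)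
        nV := inf_le_right
        nP := le_trans (le_inf (inf_le_left.trans A.nP) le_normalizer) inf_normalizer_le_normalizer_inf
        PL := inf_le_right
        isP := A.isP.to_le inf_le_left
        cop := fun hd => A.cop (hd.trans (card_dvd_of_le hB.le))
        ne := hB.ne
        irr := fun U hU hUn => by
          by_cases hU0 : U = ⊥
          · exact Or.inl hU0
          refine Or.inr (le_antisymm hU fun w hw => ?_)
          have hle : V ≤ U ⊔ sSup (orb L W \ {W}) := by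
            rw [← sSup_orb_eq A (hU.trans hB.le) hU0]
            refine sSup_le ?_
            rintro _ ⟨l, hl, rfl⟩
            by_cases hlW : MulAut.conj l • W = W
            · rw [Coprime.conj_smul_eq_self_iff.mpr (hUn (mem_inf.mpr ⟨hl,
                Coprime.conj_smul_eq_self_iff.mp hlW⟩))]
              exact le_sup_left
            · exact ((Subgroup.pointwise_smul_le_pointwise_smul_iff.mpr hU).trans
                (le_sSup (show MulAut.conj l • W ∈ orb L W \ {W} from ⟨⟨l, hl, rfl⟩, hlW⟩))).trans le_sup_right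
          have hcen : sSup (orb L W \ {W}) ≤ normalizer (U : Set G) := fun y hy =>
            centralizer_le_normalizer _ (mem_centralizer_iff.mpr fun x hx =>
              A.comm x (hB.le (hU hx)) y (sSup_orb_le A.nV hB.le (fun Z hZ => hZ.1) hy))
          obtain ⟨u, hu, o, ho, rfl⟩ := (Coprime.mem_sup_of_le_normalizer hcen).mp (hle (hB.le hw))
          have hoW : o ∈ W := by simpa using mul_mem (inv_mem (hU hu)) hw
          have ho1 : o ∈ W ⊓ sSup (orb L W \ {W}) := mem_inf.mpr ⟨hoW, ho⟩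
          rw [hB.inf_sSup (self_mem_orb L W) (fun Z hZ => hZ.1) (fun h => h.2 rfl), mem_bot] at ho1
          rw [ho1, mul_one]; exact hu }
    obtain ⟨w, hw, hwesc⟩ := IH W (P ⊓ L1) L1 (lt_of_le_of_ne hB.le hB.ne_top) hact _ (hconjK l0 hl0)
      (by rw [conj_pow, hap, mul_one, mul_inv_cancel]) hc0
    choose! t ht using fun U (hU : U ∈ orb L W) => hU
    have hbuild : ∀ S : Set (Subgroup G), S.Finite → S ⊆ orb L W → ∃ v ∈ sSup S, ∀ k ∈ P ⊓ L1,
        Commute k v → ∀ U ∈ S, Commute k (t U * w * (t U)⁻¹) := by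
      intro S hS
      induction S, hS using Set.Finite.induction_on with
      | empty => exact fun _ => ⟨1, one_mem _, fun _ _ _ U hU => hU.elim⟩
      | @insert U S hUS _ ih =>
        intro hsub
        obtain ⟨v, hv, hvfix⟩ := ih ((Set.subset_insert U S).trans hsub)
        have hUo := hsub (Set.mem_insert U S)
        obtain ⟨u, hudef⟩ : ∃ u, u = t U * w * (t U)⁻¹ := ⟨_, rfl⟩
        have hu : u ∈ U := by
          have := Coprime.conj_mem_conj_smul (g := t U) hw
          rwa [← (ht U hUo).2, ← hudef] at this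
        refine ⟨v * u, mul_mem (sSup_le_sSup (Set.subset_insert U S) hv) (le_sSup (Set.mem_insert U S) hu),
          fun k hk hc => ?_⟩
        have hkS : k ∈ normalizer ((sSup S : Subgroup G) : Set G) := by
          refine smul_le_self ?_
          rw [smul_sSup]
          refine sSup_le_sSup ?_
          rintro _ ⟨Y, hY, rfl⟩
          simp only [Coprime.conj_smul_eq_self_iff.mpr (hKfix k hk Y (hsub (Set.mem_insert_of_mem U hY)))]
          exact hY
        have h1 : v⁻¹ * (k * v * k⁻¹) = u * (k * u * k⁻¹)⁻¹ := by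
          rw [eq_mul_inv_iff_mul_eq, mul_assoc, inv_mul_eq_iff_eq_mul]
          calc k * v * k⁻¹ * (k * u * k⁻¹) = k * (v * u) * k⁻¹ := by group
            _ = v * u := by rw [hc.eq, mul_inv_cancel_right]
        have h2 : v⁻¹ * (k * v * k⁻¹) ∈ U ⊓ sSup S :=
          mem_inf.mpr ⟨h1 ▸ mul_mem hu (inv_mem ((mem_normalizer_iff.mp (hKfix k hk U hUo) u).mp hu)),
            mul_mem (inv_mem hv) ((mem_normalizer_iff.mp hkS v).mp hv)⟩
        rw [hB.inf_sSup hUo ((Set.subset_insert U S).trans hsub) hUS, mem_bot] at h2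
        intro Y hY
        rcases Set.mem_insert_iff.mp hY with rfl | hY
        · rw [h2] at h1
          show k * _ = _ * k
          rw [← hudef]
          exact mul_inv_eq_iff_eq_mul.mp (mul_inv_eq_one.mp h1.symm).symm
        · exact hvfix k hk (mul_inv_eq_iff_eq_mul.mp (inv_mul_eq_one.mp h2).symm) Y hY
    obtain ⟨v, hv, hvfix⟩ := hbuild (orb L W) (Set.toFinite _) subset_rfl
    refine ⟨v, hsup ▸ hv, fun l hl hcomm => ?_⟩
    set m := l0 * l⁻¹ with hm
    have hmL : m⁻¹ ∈ L := inv_mem (mul_mem hl0 (inv_mem hl))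
    set U := MulAut.conj m⁻¹ • W with hUdef
    have hUo : U ∈ orb L W := ⟨m⁻¹, hmL, rfl⟩
    have hh : (t U)⁻¹ * m⁻¹ ∈ L1 := by
      refine mem_inf.mpr ⟨mul_mem (inv_mem (ht U hUo).1) hmL, ?_⟩
      rw [← Coprime.conj_smul_eq_self_iff, Coprime.conj_smul_mul, ← hUdef]
      exact (congrArg (fun K => MulAut.conj (t U)⁻¹ • K) (ht U hUo).2).trans
        (Coprime.conj_inv_smul_smul _ _)
    refine hwesc _ hh ?_
    have h1 : Commute (l * a * l⁻¹) (t U * w * (t U)⁻¹) := hvfix _ (hconjK l hl) hcomm U hUo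
    generalize t U = τ at h1 ⊢
    have h2 : τ⁻¹ * m⁻¹ * (l0 * a * l0⁻¹) * (τ⁻¹ * m⁻¹)⁻¹ = τ⁻¹ * (l * a * l⁻¹) * τ := by
      rw [hm]; group
    rw [h2]
    calc τ⁻¹ * (l * a * l⁻¹) * τ * w = τ⁻¹ * ((l * a * l⁻¹) * (τ * w * τ⁻¹)) * τ := by group
      _ = τ⁻¹ * ((τ * w * τ⁻¹) * (l * a * l⁻¹)) * τ := by rw [h1.eq]
      _ = _ := by group
  · obtain ⟨w, hw, hw1⟩ : ∃ w ∈ W, w ≠ 1 := by
      by_contra hcon
      push Not at hcon
      exact hB.ne (le_bot_iff.mp fun x hx => mem_bot.mpr (hcon x hx))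
    refine ⟨w, hB.le hw, fun l hl hc => haK ?_⟩
    set a' := l * a * l⁻¹ with ha'
    have ha'P : a' ∈ P := (mem_normalizer_iff.mp (A.nP hl) a).mp ha
    have ha'W : MulAut.conj a' • W = W := by
      by_contra hne
      refine hw1 (mem_bot.mp ((hB.disjoint ⟨a', A.PL ha'P, rfl⟩ (self_mem_orb L W) hne).le ⟨?_, hw⟩))
      have := Coprime.conj_mem_conj_smul (g := a') hw
      rwa [hc.eq, mul_inv_cancel_right] at this
    have ha'K : a' ∈ P ⊓ L1 :=
      mem_inf.mpr ⟨ha'P, mem_inf.mpr ⟨A.PL ha'P, Coprime.conj_smul_eq_self_iff.mp ha'W⟩⟩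
    have := (mem_normalizer_iff.mp (hK (inv_mem hl)) a').mp ha'K
    rw [ha'] at this
    simpa [mul_assoc] using this

end Cfsg.Agent.LocalFlavell.BaerSuzuki
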