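import Cfsg.Agent.LocalFlavell.BaerSuzukiPrimitive
import Cfsg.Agent.Lib.Coprime.FixedPointFree

/-! Counting fixed points in the primitive case. -/

set_option autoImplicit false
set_option linter.unusedSectionVars false

namespace Cfsg.Agent.LocalFlavell.BaerSuzuki

open Subgroup
open scoped Pointwise

universe u

variable {G : Type u} [Group G] [Finite G] {p : ℕ} [Fact p.Prime]

theorem three_le (hp : p ≠ 2) : 3 ≤ p := by
  have := (Fact.out : p.Prime).two_le; omega

theorem commute_conj_of {E : Type*} [Group E] {a f ζ : E} (hζ : f * a * f⁻¹ = ζ * a) (hzf : f * ζ = ζ * f) :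
    ∀ i : ℕ, f ^ i * a * (f ^ i)⁻¹ = ζ ^ i * a := by
  intro i
  induction i with
  | zero => simp
  | succ i ih =>
    calc f ^ (i + 1) * a * (f ^ (i + 1))⁻¹ = f * (f ^ i * a * (f ^ i)⁻¹) * f⁻¹ := by rw [pow_succ']; group
      _ = f * (ζ ^ i * a) * f⁻¹ := by rw [ih]
      _ = (f * ζ ^ i * f⁻¹) * (f * a * f⁻¹) := by group
      _ = ζ ^ i * (ζ * a) := by
        rw [((show Commute f ζ from hzf).pow_right i).eq, mul_inv_cancel_right, hζ]
      _ = _ := by rw [pow_succ]; group

/-- In a group of extraspecial type acting with fixed point free centre the module is large. -/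
theorem card_le_pow (hp : p ≠ 2) {V Z0 : Subgroup G} (hVc : ∀ a ∈ V, ∀ b ∈ V, a * b = b * a)
    (hcopV : ¬ p ∣ Nat.card V) (hZp : ∀ c ∈ Z0, c ^ p = 1) (hZcard : Nat.card Z0 = p)
    (hZfix : ∀ c ∈ Z0, c ≠ 1 → ∀ v ∈ V, c * v = v * c → v = 1) :
    ∀ F : Subgroup G, Z0 ≤ F → (∀ g ∈ F, ∀ c ∈ Z0, g * c = c * g) →
      (∀ g ∈ F, g ^ p = 1) → (∀ g ∈ F, ∀ h ∈ F, g * h * g⁻¹ * h⁻¹ ∈ Z0) →
      ∀ W : Subgroup G, W ≤ V → W ≠ ⊥ → F ≤ normalizer (W : Set G) →
      p ^ 3 * Nat.card F ≤ (p - 1) * Nat.card W ^ (p - 1) * Nat.card ↥(F ⊓ centralizer (F : Set G)) ∧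
      (∀ a ∈ F, a ∉ centralizer (F : Set G) → ∃ Wa : Subgroup G, Wa = W ⊓ centralizer ({a} : Set G) ∧
        Wa ≠ ⊥ ∧ Nat.card Wa ^ p ≤ Nat.card W ∧ p ^ 3 * Nat.card F ≤
          p ^ 2 * (p - 1) * Nat.card Wa ^ (p - 1) * Nat.card ↥(F ⊓ centralizer (F : Set G))) := by
  intro F
  induction hn : Nat.card F using Nat.strong_induction_on generalizing F with
  | _ n ih =>
  subst hn
  intro hZF hFZ hFp hFcom W hWV hWne hFW
  have hp3 := three_le hp
  obtain ⟨z, hzZ, hz1⟩ : ∃ z ∈ Z0, z ≠ 1 := by
    have : Z0 ≠ ⊥ := by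
      intro e; rw [e, card_bot] at hZcard; omega
    obtain ⟨z, hz⟩ := Subgroup.ne_bot_iff_exists_ne_one.mp this
    exact ⟨z, z.2, fun e => hz (Subtype.ext e)⟩
  have hzz : Z0 = zpowers z := (eq_of_le_of_card_ge (zpowers_le.mpr hzZ) (by
    rw [hZcard, Nat.card_zpowers, orderOf_eq_prime (hZp z hzZ) hz1])).symm
  -- every nontrivial invariant subgroup has order at least `p + 1`
  have hlow : ∀ W' : Subgroup G, W' ≤ V → W' ≠ ⊥ → Z0 ≤ normalizer (W' : Set G) → p + 1 ≤ Nat.card W' := by
    intro W' hW'V hne hn'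
    have hfpf : ∀ a ∈ Z0, a ≠ 1 → W' ⊓ centralizer ({a} : Set G) = ⊥ := fun a ha ha1 =>
      le_bot_iff.mp fun v hv => mem_bot.mpr (hZfix a ha ha1 v (hW'V (mem_inf.mp hv).1)
        (mem_centralizer_singleton_iff.mp (mem_inf.mp hv).2).symm)
    have hmod := Coprime.fpf_card_mod hn' hfpf
    rw [hZcard] at hmod
    have h1 : 1 < Nat.card W' := W'.one_lt_card_iff_ne_bot.mpr hne
    by_contra hlt
    have h2 : Nat.card W' < p ∨ Nat.card W' = p := by omega
    rcases h2 with h2 | h2
    · rw [Nat.mod_eq_of_lt h2, Nat.mod_eq_of_lt (by omega)] at hmod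
      omega
    · exact hcopV (h2 ▸ card_dvd_of_le hW'V)
  have hnc : ∀ a ∈ F, a ∉ centralizer (F : Set G) → ∃ Wa : Subgroup G,
      Wa = W ⊓ centralizer ({a} : Set G) ∧ Wa ≠ ⊥ ∧ Nat.card Wa ^ p ≤ Nat.card W ∧
      p ^ 3 * Nat.card F ≤ p ^ 2 * (p - 1) * Nat.card Wa ^ (p - 1) * Nat.card ↥(F ⊓ centralizer (F : Set G)) := by
    intro a ha hac
    obtain ⟨f, hf, hfa⟩ : ∃ f ∈ F, f * a * f⁻¹ * a⁻¹ ≠ 1 := by
      by_contra hcon
      push Not at hcon
      exact hac (mem_centralizer_iff.mpr fun g hg => mul_inv_eq_iff_eq_mul.mp (mul_inv_eq_one.mp (hcon g hg)))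
    obtain ⟨ζ, hζdef⟩ : ∃ ζ, ζ = f * a * f⁻¹ * a⁻¹ := ⟨_, rfl⟩
    rw [← hζdef] at hfa
    have hζZ : ζ ∈ Z0 := hζdef ▸ hFcom f hf a ha
    have hζgen : Z0 = zpowers ζ := (eq_of_le_of_card_ge (zpowers_le.mpr hζZ) (by
      rw [hZcard, Nat.card_zpowers, orderOf_eq_prime (hZp ζ hζZ) hfa])).symm
    have hfaf : f * a * f⁻¹ = ζ * a := by rw [hζdef]; group
    have hconj := commute_conj_of hfaf (hFZ f hf ζ hζZ)
    have hza : Commute ζ a := (hFZ a ha ζ hζZ).symm
    have hζo : orderOf ζ = p := orderOf_eq_prime (hZp ζ hζZ) hfa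
    have hWi : ∀ i : ℕ, MulAut.conj (f ^ i) • (W ⊓ centralizer ({a} : Set G)) =
        W ⊓ centralizer ({ζ ^ i * a} : Set G) := by
      intro i
      have hfW : ∀ x, x ∈ W ↔ (f ^ i)⁻¹ * x * f ^ i ∈ W := fun x => by
        have := mem_normalizer_iff.mp (inv_mem (pow_mem (hFW hf) i)) x
        rwa [inv_inv] at this
      ext x
      rw [Coprime.mem_conj_smul, mem_inf, mem_inf, ← hfW, mem_centralizer_singleton_iff,
        mem_centralizer_singleton_iff, ← hconj i]
      refine and_congr Iff.rfl ⟨fun h => ?_, fun h => ?_⟩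
      · calc x * (f ^ i * a * (f ^ i)⁻¹) = f ^ i * ((f ^ i)⁻¹ * x * f ^ i * a) * (f ^ i)⁻¹ := by group
          _ = f ^ i * (a * ((f ^ i)⁻¹ * x * f ^ i)) * (f ^ i)⁻¹ := by rw [h]
          _ = _ := by group
      · calc (f ^ i)⁻¹ * x * f ^ i * a = (f ^ i)⁻¹ * (x * (f ^ i * a * (f ^ i)⁻¹)) * f ^ i := by group
          _ = (f ^ i)⁻¹ * ((f ^ i * a * (f ^ i)⁻¹) * x) * f ^ i := by rw [h]
          _ = _ := by group
    have hBn : zpowers a ⊔ zpowers ζ ≤ normalizer (W : Set G) :=
      sup_le (zpowers_le.mpr (hFW ha)) (zpowers_le.mpr (hFW (hZF hζZ)))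
    -- the projection killing all but the `i`-th eigenspace
    have hproj : ∀ i j : ℕ, i < p → j < p → i ≠ j → ∀ v ∈ W, Commute (ζ ^ j * a) v →
        ((List.range p).map fun k => (ζ ^ i * a) ^ k * v * ((ζ ^ i * a) ^ k)⁻¹).prod = 1 := by
      intro i j hi hj hij v hv hvj
      set e := ζ ^ i * a with he
      have hek : ∀ k, e ^ k * v * (e ^ k)⁻¹ ∈ W := fun k => conj_mem hBn
        (pow_mem (mul_mem (mem_sup_right (pow_mem (mem_zpowers ζ) i)) (mem_sup_left (mem_zpowers a))) k) hv
      have hprodW : ((List.range p).map fun k => e ^ k * v * (e ^ k)⁻¹).prod ∈ W :=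
        list_prod_mem fun x hx => by
          obtain ⟨k, -, rfl⟩ := List.mem_map.mp hx
          exact hek k
      set Pr := ((List.range p).map fun k => e ^ k * v * (e ^ k)⁻¹).prod with hPr
      -- commutes with `e`
      have hep : e ^ p = 1 := hFp e (mul_mem (hZF (pow_mem hζZ i)) ha)
      have hPe : e * Pr * e⁻¹ = Pr := by
        have hmapconj : ∀ (l : List G), e * l.prod * e⁻¹ = (l.map fun x => e * x * e⁻¹).prod := by
          intro l
          induction l with
          | nil => simp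
          | cons x l ih => rw [List.prod_cons, List.map_cons, List.prod_cons, ← ih]; group
        rw [hPr, hmapconj, List.map_map]
        obtain ⟨m, hm⟩ : ∃ m, p = m + 1 := ⟨p - 1, by omega⟩
        rw [hm, List.range_succ, List.map_append, List.map_append, List.prod_append, List.prod_append]
        have hlast : ((List.map ((fun x => e * x * e⁻¹) ∘ fun k => e ^ k * v * (e ^ k)⁻¹) [m]).prod) = v := by
          rw [List.map_cons, List.map_nil, List.prod_cons, List.prod_nil, mul_one, Function.comp_apply]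
          calc e * (e ^ m * v * (e ^ m)⁻¹) * e⁻¹ = e ^ (m + 1) * v * (e ^ (m + 1))⁻¹ := by rw [pow_succ']; group
            _ = v := by rw [← hm, hep]; group
        rw [hlast, List.map_cons, List.map_nil, List.prod_cons, List.prod_nil, mul_one]
        obtain ⟨m', rfl⟩ : ∃ m', m = m' + 1 := ⟨m - 1, by omega⟩
        have hshift : (List.map ((fun x => e * x * e⁻¹) ∘ fun k => e ^ k * v * (e ^ k)⁻¹)
            (List.range (m' + 1))).prod = (List.map (fun k => e ^ k * v * (e ^ k)⁻¹)
            ((List.range (m' + 1)).map Nat.succ)).prod := by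
          rw [List.map_map]
          refine congrArg List.prod (List.map_congr_left fun k _ => ?_)
          simp only [Function.comp_apply]
          rw [Nat.succ_eq_add_one, pow_succ']; group
        rw [hshift]
        set T := (List.map (fun k => e ^ k * v * (e ^ k)⁻¹) ((List.range m').map Nat.succ)).prod with hT
        have hT1 : (List.map (fun k => e ^ k * v * (e ^ k)⁻¹) ((List.range (m' + 1)).map Nat.succ)).prod =
            T * (e ^ (m' + 1) * v * (e ^ (m' + 1))⁻¹) := by
          rw [List.range_succ, List.map_append, List.map_append, List.prod_append]; simp [hT]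
        have hT2 : (List.map (fun k => e ^ k * v * (e ^ k)⁻¹) (List.range (m' + 1))).prod = v * T := by
          rw [List.range_succ_eq_map]; simp [hT]
        have hTW : T ∈ W := list_prod_mem fun x hx => by
          obtain ⟨k, -, rfl⟩ := List.mem_map.mp hx
          exact hek k
        rw [hT1, hT2]
        have c1 : Commute T v := hVc T (hWV hTW) v (hWV hv)
        have c2 : Commute (e ^ (m' + 1) * v * (e ^ (m' + 1))⁻¹) v := hVc _ (hWV (hek _)) v (hWV hv)
        rw [(c1.mul_left c2).eq]; group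
      have hPz : (ζ ^ j * a) * Pr * (ζ ^ j * a)⁻¹ = Pr := by
        have hmapconj : ∀ (l : List G), (ζ ^ j * a) * l.prod * (ζ ^ j * a)⁻¹ =
            (l.map fun x => (ζ ^ j * a) * x * (ζ ^ j * a)⁻¹).prod := by
          intro l
          induction l with
          | nil => simp
          | cons x l ih => rw [List.prod_cons, List.map_cons, List.prod_cons, ← ih]; group
        rw [hPr, hmapconj, List.map_map]
        refine congrArg List.prod (List.map_congr_left fun k _ => ?_)
        simp only [Function.comp_apply]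
        set d := ζ ^ j * a with hd
        have hed : Commute d e :=
          ((((Commute.refl ζ).pow_pow j i).mul_right (hza.pow_left j)).mul_left
            ((hza.symm.pow_right i).mul_right (Commute.refl a)))
        have hdk := hed.pow_right k
        calc d * (e ^ k * v * (e ^ k)⁻¹) * d⁻¹ = (d * e ^ k) * v * (d * e ^ k)⁻¹ := by group
          _ = e ^ k * (d * v * d⁻¹) * (e ^ k)⁻¹ := by rw [hdk.eq]; group
          _ = _ := by rw [hvj.eq, mul_inv_cancel_right]
      have hne' : e * (ζ ^ j * a)⁻¹ ≠ 1 := by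
        intro h
        rw [he, mul_inv_eq_one] at h
        exact hij ((pow_injOn_Iio_orderOf (by rwa [hζo]) (by rwa [hζo])) (mul_right_cancel h))
      refine hZfix _ ?_ hne' _ (hWV hprodW) ?_
      · rw [he, mul_inv_rev, mul_assoc, ← mul_assoc a, mul_inv_cancel, one_mul]
        exact mul_mem (pow_mem hζZ i) (inv_mem (pow_mem hζZ j))
      · have h1 : Commute e Pr := mul_inv_eq_iff_eq_mul.mp hPe
        have h2 : Commute (ζ ^ j * a) Pr := mul_inv_eq_iff_eq_mul.mp hPz
        exact (h1.mul_left h2.inv_left).eq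
    set Wa := W ⊓ centralizer ({a} : Set G) with hWa
    have hWai : ∀ i : ℕ, Nat.card ↥(W ⊓ centralizer ({ζ ^ i * a} : Set G)) = Nat.card Wa := fun i => by
      rw [← hWi i, Coprime.card_conj_smul]
    have hpow : ∀ m, m ≤ p → Nat.card Wa ^ m ≤
        Nat.card ↥(⨆ i ∈ Finset.range m, W ⊓ centralizer ({ζ ^ i * a} : Set G)) := by
      intro m
      induction m with
      | zero => intro _; simp
      | succ m ihm =>
        intro hm
        rw [Finset.range_add_one, Finset.iSup_insert]
        have hUV : W ⊓ centralizer ({ζ ^ m * a} : Set G) ≤ V := inf_le_left.trans hWV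
        have hRW : (⨆ i ∈ Finset.range m, W ⊓ centralizer ({ζ ^ i * a} : Set G)) ≤ W :=
          iSup₂_le fun _ _ => inf_le_left
        rw [Coprime.card_sup_of_disjoint (fun y hy => centralizer_le_normalizer _
          (mem_centralizer_iff.mpr fun u hu => hVc u (hUV hu) y (hWV (hRW hy)))), hWai, pow_succ']
        · exact Nat.mul_le_mul_left _ (ihm (by omega))
        · rw [disjoint_iff, eq_bot_iff]
          intro v hv
          obtain ⟨hv1, hv2⟩ := mem_inf.mp hv
          obtain ⟨hvW, hvm⟩ := mem_inf.mp hv1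
          set e := ζ ^ m * a with he
          set Φ : G → G := fun w => ((List.range p).map fun k => e ^ k * w * (e ^ k)⁻¹).prod with hΦ
          have hΦv : Φ v = v ^ p := by
            have : ∀ k ∈ List.range p, e ^ k * v * (e ^ k)⁻¹ = v := fun k _ => by
              rw [((show Commute e v from (mem_centralizer_singleton_iff.mp hvm).symm).pow_left k).eq,
                mul_inv_cancel_right]
            rw [hΦ]; simp only [List.map_congr_left this, List.map_const', List.prod_replicate, List.length_range]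
          have hΦmul : ∀ x ∈ W, ∀ y ∈ W, Φ (x * y) = Φ x * Φ y := by
            intro x hx y hy
            have hgen : ∀ l : List ℕ, (l.map fun k => e ^ k * (x * y) * (e ^ k)⁻¹).prod =
                (l.map fun k => e ^ k * x * (e ^ k)⁻¹).prod * (l.map fun k => e ^ k * y * (e ^ k)⁻¹).prod := by
              intro l
              induction l with
              | nil => simp
              | cons k l ihl =>
                simp only [List.map_cons, List.prod_cons, ihl]
                have heW : ∀ k w, w ∈ W → e ^ k * w * (e ^ k)⁻¹ ∈ W := fun k w hw => conj_mem hBn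
                  (pow_mem (mul_mem (mem_sup_right (pow_mem (mem_zpowers ζ) m)) (mem_sup_left (mem_zpowers a))) k) hw
                have c : Commute (e ^ k * y * (e ^ k)⁻¹) (l.map fun k => e ^ k * x * (e ^ k)⁻¹).prod :=
                  hVc _ (hWV (heW k y hy)) _ (hWV (list_prod_mem fun w hw => by
                    obtain ⟨k', -, rfl⟩ := List.mem_map.mp hw
                    exact heW k' x hx))
                have e0 : e ^ k * (x * y) * (e ^ k)⁻¹ = e ^ k * x * (e ^ k)⁻¹ * (e ^ k * y * (e ^ k)⁻¹) := by group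
                rw [e0, mul_assoc, ← mul_assoc (e ^ k * y * (e ^ k)⁻¹), c.eq]
                group
            exact hgen _
          have hker : ∀ w ∈ (⨆ i ∈ Finset.range m, W ⊓ centralizer ({ζ ^ i * a} : Set G)), Φ w = 1 := by
            let K : Subgroup G :=
              { carrier := {w | w ∈ W ∧ Φ w = 1}
                one_mem' := ⟨one_mem _, by simp [hΦ]⟩
                mul_mem' := fun {x y} hx hy => ⟨mul_mem hx.1 hy.1, by rw [hΦmul x hx.1 y hy.1, hx.2, hy.2, one_mul]⟩
                inv_mem' := fun {x} hx => ⟨inv_mem hx.1, by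
                  have h := hΦmul x hx.1 x⁻¹ (inv_mem hx.1)
                  rw [hx.2, one_mul, mul_inv_cancel] at h
                  rw [← h]; simp [hΦ]⟩ }
            intro w hw
            refine ((iSup₂_le fun i hi u hu => ?_ : _ ≤ K) hw).2
            obtain ⟨huW, hui⟩ := mem_inf.mp hu
            have hi' := Finset.mem_range.mp hi
            exact ⟨huW, hproj m i (by omega) (by omega) (by omega) u huW (mem_centralizer_singleton_iff.mp hui).symm⟩
          have h1 : v ^ p = 1 := hΦv ▸ hker v hv2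
          rw [mem_bot, ← orderOf_eq_one_iff]
          rcases (Nat.dvd_prime Fact.out).mp (orderOf_dvd_of_pow_eq_one h1) with h | h
          · exact h
          · exact absurd (h ▸ V.orderOf_dvd_natCard (hWV hvW)) hcopV
    have hWaW : Nat.card Wa ^ p ≤ Nat.card W :=
      (hpow p le_rfl).trans (Nat.le_of_dvd Nat.card_pos (card_dvd_of_le (iSup₂_le fun _ _ => inf_le_left)))
    -- some eigenspace is nontrivial
    have hWane : Wa ≠ ⊥ := by
      intro hbot
      have hnorm : zpowers ζ ≤ normalizer (zpowers a : Set G) := fun g hg => centralizer_le_normalizer _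
        (mem_centralizer_iff.mpr fun u hu => by
          obtain ⟨k, rfl⟩ := mem_zpowers_iff.mp hg
          obtain ⟨l, rfl⟩ := mem_zpowers_iff.mp hu
          exact (hza.symm.zpow_zpow l k).eq)
      have hmem : ∀ b ∈ zpowers a ⊔ zpowers ζ, ∃ k l : ℕ, b = a ^ k * ζ ^ l := by
        intro b hb
        obtain ⟨u, hu, w, hw, rfl⟩ := (Coprime.mem_sup_of_le_normalizer hnorm).mp hb
        obtain ⟨k, rfl⟩ := (isOfFinOrder_of_finite a).mem_powers_iff_mem_zpowers.mpr hu
        obtain ⟨l, rfl⟩ := (isOfFinOrder_of_finite ζ).mem_powers_iff_mem_zpowers.mpr hw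
        exact ⟨k, l, rfl⟩
      have hB : IsMulCommutative ↥(zpowers a ⊔ zpowers ζ) := ⟨⟨fun x y => Subtype.ext (by
        obtain ⟨k, l, hx⟩ := hmem _ x.2
        obtain ⟨k', l', hy⟩ := hmem _ y.2
        change (x : G) * y = y * x
        rw [hx, hy]
        exact ((((Commute.refl a).pow_pow k k').mul_right (hza.symm.pow_pow k l')).mul_left
          ((hza.pow_pow l k').mul_right ((Commute.refl ζ).pow_pow l l'))).eq)⟩⟩
      have hbp : ∀ b ∈ zpowers a ⊔ zpowers ζ, b ^ p = 1 := fun b hb =>
        hFp b (sup_le (zpowers_le.mpr ha) (zpowers_le.mpr (hZF hζZ)) hb)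
      have hBnc : ¬ IsCyclic ↥(zpowers a ⊔ zpowers ζ) := by
        intro hcyc
        obtain ⟨g, hg⟩ := hcyc.exists_generator
        have hcard : Nat.card ↥(zpowers a ⊔ zpowers ζ) ≤ p := by
          rw [← orderOf_eq_card_of_forall_mem_zpowers hg, ← orderOf_coe]
          exact Nat.le_of_dvd (by omega) (orderOf_dvd_of_pow_eq_one (hbp g g.2))
        have e : zpowers ζ = zpowers a ⊔ zpowers ζ :=
          eq_of_le_of_card_ge le_sup_right (by rw [Nat.card_zpowers, hζo]; exact hcard)
        have haZ : a ∈ Z0 := hζgen ▸ e.ge (mem_sup_left (mem_zpowers a))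
        exact hac (mem_centralizer_iff.mpr fun g hg => hFZ g hg a haZ)
      have hcopB : (Nat.card ↥(zpowers a ⊔ zpowers ζ)).Coprime (Nat.card W) := by
        have hpg : IsPGroup p ↥(zpowers a ⊔ zpowers ζ) := fun b => ⟨1, by
          rw [pow_one]; exact Subtype.ext (hbp b b.2)⟩
        obtain ⟨k, hk⟩ := IsPGroup.iff_card.mp hpg
        rw [hk]
        exact Nat.Coprime.pow_left k ((Fact.out : p.Prime).coprime_iff_not_dvd.mpr fun hd =>
          hcopV (hd.trans (card_dvd_of_le hWV)))
      refine hWne ((Coprime.fixedGen_eq hBnc hBn hcopB).symm.trans (le_bot_iff.mp (iSup₂_le fun b hb => ?_)))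
      obtain ⟨hbB, hb1⟩ := hb
      obtain ⟨k, l, rfl⟩ := hmem b hbB
      by_cases hk : p ∣ k
      · obtain ⟨k', rfl⟩ := hk
        rw [pow_mul, hFp a ha, one_pow, one_mul] at hb1 ⊢
        exact fun v hv => mem_bot.mpr (hZfix _ (pow_mem hζZ l) hb1 v (hWV (mem_inf.mp hv).1)
          (mem_centralizer_singleton_iff.mp (mem_inf.mp hv).2).symm)
      · have hcop : k.Coprime (orderOf (a ^ k * ζ ^ l)) := by
          rw [orderOf_eq_prime (hbp _ hbB) hb1]
          exact Nat.Coprime.symm ((Fact.out : p.Prime).coprime_iff_not_dvd.mpr hk)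
        obtain ⟨k₂, hk₂⟩ : ∃ k₂ : ℕ, (a ^ k) ^ k₂ = a := exists_pow_eq_self_of_coprime (by
          refine Nat.Coprime.coprime_dvd_right (orderOf_dvd_of_pow_eq_one (hFp a ha)) ?_
          exact Nat.Coprime.symm ((Fact.out : p.Prime).coprime_iff_not_dvd.mpr hk))
        have h2 : (a ^ k * ζ ^ l) ^ k₂ = ζ ^ (l * k₂) * a := by
          rw [((hza.symm.pow_pow k l)).mul_pow, hk₂, ← pow_mul, (hza.symm.pow_right _).eq]
        have hle : W ⊓ centralizer ({a ^ k * ζ ^ l} : Set G) ≤ W ⊓ centralizer ({ζ ^ (l * k₂) * a} : Set G) := by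
          intro v hv
          refine mem_inf.mpr ⟨(mem_inf.mp hv).1, mem_centralizer_singleton_iff.mpr ?_⟩
          rw [← h2]
          exact ((show Commute v _ from mem_centralizer_singleton_iff.mp (mem_inf.mp hv).2).pow_right k₂).eq
        refine hle.trans (le_of_eq ?_)
        rw [← hWi, hbot, Subgroup.smul_bot]
    refine ⟨Wa, rfl, hWane, hWaW, ?_⟩
    -- induction in the centraliser of `a`
    set F' := F ⊓ centralizer ({a} : Set G) with hF'
    have hF'F : F' ≤ F := inf_le_left
    have haF' : a ∈ F' := mem_inf.mpr ⟨ha, mem_centralizer_singleton_iff.mpr rfl⟩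
    have hlt : Nat.card F' < Nat.card F := by
      by_contra h
      have := eq_of_le_of_card_ge hF'F (not_lt.mp h)
      refine hfa ?_
      rw [hζdef, mem_centralizer_singleton_iff.mp (mem_inf.mp (this.ge hf)).2, mul_inv_cancel_right,
        mul_inv_cancel]
    have hF'Z : Z0 ≤ F' := fun c hc =>
      mem_inf.mpr ⟨hZF hc, mem_centralizer_singleton_iff.mpr (hFZ a ha c hc).symm⟩
    have hWaV : Wa ≤ V := inf_le_left.trans hWV
    have hF'W : F' ≤ normalizer (Wa : Set G) := le_normalizer_conj fun g hg v hv => by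
      obtain ⟨hgF, hga⟩ := mem_inf.mp hg
      obtain ⟨hvW, hva⟩ := mem_inf.mp hv
      refine mem_inf.mpr ⟨conj_mem hFW hgF hvW, mem_centralizer_singleton_iff.mpr ?_⟩
      exact (((show Commute g a from mem_centralizer_singleton_iff.mp hga).mul_left
        (show Commute v a from mem_centralizer_singleton_iff.mp hva)).mul_left
        (show Commute g a from mem_centralizer_singleton_iff.mp hga).inv_left).eq
    have hIH := (ih _ hlt F' rfl hF'Z (fun g hg => hFZ g (hF'F hg)) (fun g hg => hFp g (hF'F hg))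
      (fun g hg h hh => hFcom g (hF'F hg) h (hF'F hh)) Wa hWaV hWane hF'W).1
    have hFle : Nat.card F ≤ p * Nat.card F' := by
      have := card_le_mul (A := F) (Z := Z0) (x := a) (fun g hg => hFcom g hg a ha) hFZ
        (fun c hc d hd => hFZ c (hZF hc) d hd)
      rwa [hZcard] at this
    have hZle : Nat.card ↥(F' ⊓ centralizer (F' : Set G)) ≤
        p * Nat.card ↥(F ⊓ centralizer (F : Set G)) := by
      have h1 := card_le_mul (A := F' ⊓ centralizer (F' : Set G)) (Z := Z0) (x := f)
        (fun g hg => hFcom g (hF'F (mem_inf.mp hg).1) f hf) (fun g hg => hFZ g (hF'F (mem_inf.mp hg).1))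
        (fun c hc d hd => hFZ c (hZF hc) d hd)
      rw [hZcard] at h1
      refine h1.trans (Nat.mul_le_mul_left _ (Nat.le_of_dvd Nat.card_pos (card_dvd_of_le fun w hw => ?_)))
      obtain ⟨⟨hwF', hwc⟩, hwf⟩ := hw
      refine mem_inf.mpr ⟨hF'F hwF', mem_centralizer_iff.mpr fun g hg => ?_⟩
      obtain ⟨j, hj⟩ : ∃ j : ℕ, ζ ^ j = g * a * g⁻¹ * a⁻¹ :=
        (isOfFinOrder_of_finite ζ).mem_powers_iff_mem_zpowers.mpr (hζgen ▸ hFcom g hg a ha)
      have hgf : (f ^ j)⁻¹ * g ∈ F' := by
        refine mem_inf.mpr ⟨mul_mem (inv_mem (pow_mem hf j)) hg, mem_centralizer_singleton_iff.mpr ?_⟩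
        have h1 : g * a * g⁻¹ = f ^ j * a * (f ^ j)⁻¹ := by rw [hconj j, hj]; group
        calc (f ^ j)⁻¹ * g * a = (f ^ j)⁻¹ * (g * a * g⁻¹) * g := by group
          _ = _ := by rw [h1]; group
      have h3 : Commute w ((f ^ j)⁻¹ * g) := (mem_centralizer_iff.mp hwc _ hgf).symm
      have h4 : Commute w (f ^ j) := (show Commute w f from mem_centralizer_singleton_iff.mp hwf).pow_right j
      have h5 := h4.mul_right h3
      rw [mul_inv_cancel_left] at h5
      exact h5.eq.symm
    calc p ^ 3 * Nat.card F ≤ p ^ 3 * (p * Nat.card F') := Nat.mul_le_mul_left _ hFle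
      _ = p * (p ^ 3 * Nat.card F') := by ring
      _ ≤ p * ((p - 1) * Nat.card Wa ^ (p - 1) * Nat.card ↥(F' ⊓ centralizer (F' : Set G))) :=
        Nat.mul_le_mul_left _ hIH
      _ ≤ p * ((p - 1) * Nat.card Wa ^ (p - 1) * (p * Nat.card ↥(F ⊓ centralizer (F : Set G)))) :=
        Nat.mul_le_mul_left _ (Nat.mul_le_mul_left _ hZle)
      _ = _ := by ring
  refine ⟨?_, hnc⟩
  by_cases hab : F ≤ centralizer (F : Set G)
  · rw [inf_eq_left.mpr hab]
    refine Nat.mul_le_mul_right _ ?_
    have h1 := hlow W hWV hWne (hZF.trans hFW)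
    refine le_trans ?_ (Nat.mul_le_mul_left _ (Nat.pow_le_pow_left h1 _))
    rcases eq_or_ne p 3 with e | e
    · rw [e]; norm_num
    · have h5 : 4 ≤ p := by omega
      calc p ^ 3 ≤ (p + 1) ^ 3 := Nat.pow_le_pow_left (by omega) 3
        _ ≤ (p + 1) ^ (p - 1) := Nat.pow_le_pow_right (by omega) (by omega)
        _ = 1 * (p + 1) ^ (p - 1) := (one_mul _).symm
        _ ≤ _ := Nat.mul_le_mul_right _ (by omega)
  · obtain ⟨a, ha, hac⟩ := SetLike.not_le_iff_exists.mp hab
    obtain ⟨Wa, hWa, hne, hpow, hbound⟩ := hnc a ha hac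
    have hWa1 := hlow Wa (hWa ▸ inf_le_left.trans hWV) hne (by
      rw [hWa]
      refine le_normalizer_conj fun c hc v hv => mem_inf.mpr ⟨conj_mem hFW (hZF hc) (mem_inf.mp hv).1,
        mem_centralizer_singleton_iff.mpr ?_⟩
      have hca : Commute c a := (hFZ a ha c hc).symm
      exact ((hca.mul_left (show Commute v a from mem_centralizer_singleton_iff.mp (mem_inf.mp hv).2)).mul_left
        hca.inv_left).eq)
    refine hbound.trans (Nat.mul_le_mul_right _ ?_)
    have hkey : p ^ 2 * Nat.card Wa ^ (p - 1) ≤ Nat.card W ^ (p - 1) :=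
      calc p ^ 2 * Nat.card Wa ^ (p - 1) ≤ Nat.card Wa ^ (p - 1) * Nat.card Wa ^ (p - 1) :=
            Nat.mul_le_mul_right _ ((Nat.pow_le_pow_left (by omega : p ≤ Nat.card Wa) 2).trans
              (Nat.pow_le_pow_right (by omega) (by omega)))
        _ = Nat.card Wa ^ (2 * (p - 1)) := by rw [← pow_add]; congr 1; omega
        _ ≤ Nat.card Wa ^ (p * (p - 1)) :=
          Nat.pow_le_pow_right (by omega) (Nat.mul_le_mul_right _ (by omega))
        _ = (Nat.card Wa ^ p) ^ (p - 1) := pow_mul _ _ _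
        _ ≤ Nat.card W ^ (p - 1) := Nat.pow_le_pow_left hpow _
    calc p ^ 2 * (p - 1) * Nat.card Wa ^ (p - 1) = (p - 1) * (p ^ 2 * Nat.card Wa ^ (p - 1)) := by ring
      _ ≤ _ := Nat.mul_le_mul_left _ hkey

end Cfsg.Agent.LocalFlavell.BaerSuzuki
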