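import Cfsg.Agent.LocalFlavell.BaerSuzukiFaithful

/-!
Passing to the faithful case, and the induction on the dimension: an element of order `p` (odd) acting
nontrivially on an irreducible coprime module inside a normal `p`-subgroup has no conjugate fixing
some vector.
-/

set_option autoImplicit false
set_option linter.unusedSectionVars false

namespace Cfsg.Agent.LocalFlavell.BaerSuzuki

open Subgroup
open scoped Pointwise

universe u

variable {G : Type u} [Group G] [Finite G] {p : ℕ} [Fact p.Prime]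

/-- An action inside a subgroup. -/
theorem Act.subgroupOf {V P L H : Subgroup G} (A : Act p V P L) (hV : V ≤ H) (hL : L ≤ H) :
    Act p (V.subgroupOf H) (P.subgroupOf H) (L.subgroupOf H) :=
  { comm := fun x hx y hy => Subtype.ext (A.comm x hx y hy)
    nV := le_normalizer_conj fun g hg m hm => mem_subgroupOf.mpr (conj_mem A.nV hg hm)
    nP := le_normalizer_conj fun g hg m hm => mem_subgroupOf.mpr (conj_mem A.nP hg hm)
    PL := fun x hx => A.PL hx
    isP := A.isP.comap_subtype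
    cop := by
      rw [Nat.card_congr (subgroupOfEquivOfLe hV).toEquiv]
      exact A.cop
    ne := fun e => A.ne (le_bot_iff.mp fun v hv => by
      have := e.le (show (⟨v, hV hv⟩ : H) ∈ V.subgroupOf H from hv)
      simpa [Subtype.ext_iff] using this)
    irr := fun U hU hUn => by
      rcases A.irr (U.map H.subtype) (by rintro _ ⟨x, hx, rfl⟩; exact hU hx)
          (le_normalizer_conj fun g hg m hm => by
            obtain ⟨x, hx, rfl⟩ := hm
            exact ⟨_, conj_mem hUn (show (⟨g, hL hg⟩ : H) ∈ L.subgroupOf H from hg) hx, rfl⟩) with h | h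
      · exact Or.inl ((map_eq_bot_iff_of_injective _ H.subtype_injective).mp h)
      · refine Or.inr (le_antisymm hU fun x hx => ?_)
        obtain ⟨y, hy, hyx⟩ := h.ge (mem_subgroupOf.mp hx)
        exact H.subtype_injective hyx ▸ hy }

/-- An action seen through a homomorphism injective on the module. -/
theorem Act.map {Q : Type u} [Group Q] [Finite Q] {V P L : Subgroup G} (A : Act p V P L) (f : G →* Q)
    (hinj : ∀ v ∈ V, f v = 1 → v = 1) : Act p (V.map f) (P.map f) (L.map f) :=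
  { comm := by
      rintro _ ⟨x, hx, rfl⟩ _ ⟨y, hy, rfl⟩
      rw [← map_mul, A.comm x hx y hy, map_mul]
    nV := le_normalizer_conj <| by
      rintro _ ⟨g, hg, rfl⟩ _ ⟨m, hm, rfl⟩
      exact ⟨_, conj_mem A.nV hg hm, by simp⟩
    nP := le_normalizer_conj <| by
      rintro _ ⟨g, hg, rfl⟩ _ ⟨m, hm, rfl⟩
      exact ⟨_, conj_mem A.nP hg hm, by simp⟩
    PL := map_mono A.PL
    isP := A.isP.map f
    cop := fun h => A.cop (h.trans (V.card_map_dvd f))
    ne := fun e => A.ne (le_bot_iff.mp fun v hv =>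
      mem_bot.mpr (hinj v hv (mem_bot.mp (e.le ⟨v, hv, rfl⟩))))
    irr := fun U hU hUn => by
      rcases A.irr (V ⊓ U.comap f) inf_le_left (le_normalizer_conj fun g hg m hm =>
        mem_inf.mpr ⟨conj_mem A.nV hg (mem_inf.mp hm).1, mem_comap.mpr (by
          rw [map_mul, map_mul, map_inv]
          exact conj_mem hUn ⟨g, hg, rfl⟩ (mem_comap.mp (mem_inf.mp hm).2))⟩) with h | h
      · refine Or.inl (le_bot_iff.mp fun u hu => ?_)
        obtain ⟨v, hv, rfl⟩ := hU hu
        have : v ∈ V ⊓ U.comap f := mem_inf.mpr ⟨hv, hu⟩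
        rw [h, mem_bot] at this
        simp [this]
      · refine Or.inr (le_antisymm hU ?_)
        rintro _ ⟨v, hv, rfl⟩
        exact (mem_inf.mp (h.ge hv)).2 }

theorem escapes (hp : p ≠ 2) : ∀ (n : ℕ) {G : Type u} [Group G] [Finite G] {V P L : Subgroup G},
    Nat.card V = n → Act p V P L → ∀ a ∈ P, a ^ p = 1 → a ∉ centralizer (V : Set G) → Escapes V L a := by
  intro n
  induction n using Nat.strong_induction_on with
  | _ n ih =>
  intro G _ _ V P L hn A a ha hap haV
  -- `P` modulo the kernel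
  set K0 := P ⊓ centralizer (V : Set G) with hK0
  set H := normalizer (K0 : Set G) with hH
  have hLH : L ≤ H := by
    refine le_normalizer_conj fun l hl x hx => mem_inf.mpr ⟨conj_mem A.nP hl (mem_inf.mp hx).1,
      mem_centralizer_iff.mpr fun v hv => ?_⟩
    have h1 := mem_centralizer_iff.mp (mem_inf.mp hx).2 _ (conj_mem A.nV (inv_mem hl) hv)
    calc v * (l * x * l⁻¹) = l * (l⁻¹ * v * l⁻¹⁻¹ * x) * l⁻¹ := by group
      _ = l * (x * (l⁻¹ * v * l⁻¹⁻¹)) * l⁻¹ := by rw [h1]
      _ = _ := by group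
  have hVH : V ≤ H := fun v hv => centralizer_le_normalizer _ (mem_centralizer_iff.mpr fun x hx =>
    (mem_centralizer_iff.mp (mem_inf.mp hx).2 v hv).symm)
  have : (K0.subgroupOf H).Normal := normal_in_normalizer
  set f := QuotientGroup.mk' (K0.subgroupOf H) with hf
  have hbot : ∀ x ∈ V, x ∈ P → x = 1 := fun x hx hx' => by
    obtain ⟨k, hk⟩ := IsPGroup.iff_card.mp A.isP
    have : Disjoint V P := Coprime.disjoint_of_coprime (by
      rw [hk]
      exact Nat.Coprime.pow_right k (Nat.Coprime.symm ((Fact.out : p.Prime).coprime_iff_not_dvd.mpr A.cop)))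
    exact (disjoint_def.mp this) hx hx'
  have hinj : ∀ v ∈ V.subgroupOf H, f v = 1 → v = 1 := fun v hv h =>
    Subtype.ext (hbot v hv (mem_inf.mp (mem_subgroupOf.mp ((QuotientGroup.eq_one_iff v).mp h))).1)
  have A' := (A.subgroupOf hVH hLH).map f hinj
  have hfaith : (P.subgroupOf H).map f ⊓ centralizer (((V.subgroupOf H).map f : Subgroup _) : Set _) = ⊥ := by
    rw [eq_bot_iff]
    rintro _ ⟨⟨g, hg, rfl⟩, hgc⟩
    refine mem_bot.mpr ((QuotientGroup.eq_one_iff g).mpr (mem_subgroupOf.mpr (mem_inf.mpr ⟨hg,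
      mem_centralizer_iff.mpr fun v hv => ?_⟩)))
    have hgv : (g : G) * v * (g : G)⁻¹ * v⁻¹ ∈ V :=
      mul_mem (conj_mem A.nV (A.PL hg) hv) (inv_mem hv)
    have h1 : f (g * ⟨v, hVH hv⟩ * g⁻¹ * ⟨v, hVH hv⟩⁻¹) = 1 := by
      rw [map_mul, map_mul, map_mul, map_inv, map_inv,
        ← mem_centralizer_iff.mp hgc _ ⟨⟨v, hVH hv⟩, hv, rfl⟩]
      group
    have h2 := hinj _ (mem_subgroupOf.mpr hgv) h1
    have h3 : (g : G) * v * (g : G)⁻¹ * v⁻¹ = 1 := congrArg Subtype.val h2
    exact (mul_inv_eq_iff_eq_mul.mp (mul_inv_eq_one.mp h3)).symm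
  have haH : a ∈ H := hLH (A.PL ha)
  have hafa : f ⟨a, haH⟩ ^ p = 1 := by
    rw [← map_pow, show (⟨a, haH⟩ : H) ^ p = 1 from Subtype.ext hap, map_one]
  have haf1 : f ⟨a, haH⟩ ≠ 1 := fun h =>
    haV (mem_inf.mp (mem_subgroupOf.mp ((QuotientGroup.eq_one_iff _).mp h))).2
  have hafP : f ⟨a, haH⟩ ∈ (P.subgroupOf H).map f := ⟨⟨a, haH⟩, ha, rfl⟩
  have hesc : Escapes ((V.subgroupOf H).map f) ((L.subgroupOf H).map f) (f ⟨a, haH⟩) := by
    by_cases hno : ∀ W, ¬ Block ((V.subgroupOf H).map f) ((L.subgroupOf H).map f) W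
    · exact escapes_of_not_block hp A' hno hfaith hafP hafa haf1
    · push Not at hno
      obtain ⟨W0, hW0⟩ := hno
      refine escapes_of_block A' hW0 hafP hafa (fun h => haf1 ?_) ?_
      · rw [← mem_bot, ← hfaith]
        exact mem_inf.mpr ⟨hafP, h⟩
      · intro W P1 L1 hW hA c hc hcp hcW
        refine ih (Nat.card W) ?_ rfl hA c hc hcp hcW
        have h1 : Nat.card W < Nat.card ((V.subgroupOf H).map f) := by
          by_contra h
          exact hW.ne (eq_of_le_of_card_ge hW.le (not_lt.mp h))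
        refine h1.trans_le (Nat.le_of_dvd (hn ▸ Nat.card_pos) ?_)
        rw [← hn, ← Nat.card_congr (subgroupOfEquivOfLe hVH).toEquiv]
        exact (V.subgroupOf H).card_map_dvd f
  obtain ⟨_, ⟨v, hv, rfl⟩, hesc⟩ := hesc
  refine ⟨v, hv, fun l hl hc => hesc (f ⟨l, hLH hl⟩) ⟨⟨l, hLH hl⟩, hl, rfl⟩ ?_⟩
  rw [← map_inv, ← map_mul, ← map_mul]
  exact (show Commute (⟨l, hLH hl⟩ * ⟨a, haH⟩ * ⟨l, hLH hl⟩⁻¹ : H) v from Subtype.ext hc).map f

end Cfsg.Agent.LocalFlavell.BaerSuzuki
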