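import Cfsg.Agent.LocalFlavell.BaerSuzukiCount
import Cfsg.Agent.Lib.PLocal.GlaubermanReplacement
import Mathlib.Combinatorics.Enumerative.DoubleCounting

/-!
The faithful primitive case: an element of order `p` fixes few vectors, so some vector is fixed by
none of its conjugates.
-/

set_option autoImplicit false
set_option linter.unusedSectionVars false

namespace Cfsg.Agent.LocalFlavell.BaerSuzuki

open Subgroup
open scoped Pointwise commutatorElement

universe u

variable {G : Type u} [Group G] [Finite G] {p : ℕ} [Fact p.Prime]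

/-- An element of order `p` moves the elements of an abelian `p`-group, whose elements of order `p`
it fixes, by elements of order `p`. -/
theorem moved_pow_eq_one (hp : p ≠ 2) {V0 : Subgroup G} {g : G}
    (hcom : ∀ x ∈ V0, ∀ y ∈ V0, x * y = y * x) (hn : ∀ x ∈ V0, g * x * g⁻¹ ∈ V0) (hg : g ^ p = 1)
    (hfix : ∀ y ∈ V0, y ^ p = 1 → Commute g y) :
    ∀ k : ℕ, ∀ x ∈ V0, x ^ p ^ k = 1 → (x⁻¹ * (g * x * g⁻¹)) ^ p = 1 := by
  intro k
  induction k with
  | zero => intro x hx hk; rw [pow_zero, pow_one] at hk; simp [hk]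
  | succ k ih =>
    intro x hx hk
    have hdef : ∀ y ∈ V0, (y⁻¹ * (g * y * g⁻¹)) ^ p = (y ^ p)⁻¹ * (g * y ^ p * g⁻¹) := fun y hy => by
      rw [(show Commute y⁻¹ (g * y * g⁻¹) from hcom _ (inv_mem hy) _ (hn y hy)).mul_pow, inv_pow, conj_pow]
    obtain ⟨z, hz⟩ : ∃ z, z = x⁻¹ * (g * x * g⁻¹) := ⟨_, rfl⟩
    rw [← hz]
    have hzV : z ∈ V0 := hz ▸ mul_mem (inv_mem hx) (hn x hx)
    have hzp : (z ^ p) ^ p = 1 := by
      rw [hz, hdef x hx]
      exact ih _ (pow_mem hx p) (by rw [← pow_mul, ← pow_succ', hk])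
    have hgz : Commute g (z ^ p) := hfix _ (pow_mem hzV p) hzp
    obtain ⟨c, hc⟩ : ∃ c, c = z⁻¹ * (g * z * g⁻¹) := ⟨_, rfl⟩
    have hcV : c ∈ V0 := hc ▸ mul_mem (inv_mem hzV) (hn z hzV)
    have hcp : c ^ p = 1 := by
      rw [hc, hdef z hzV, hgz.eq, mul_inv_cancel_right, inv_mul_cancel]
    have hgc : g * c * g⁻¹ = c := by rw [(hfix c hcV hcp).eq, mul_inv_cancel_right]
    have hgz' : g * z * g⁻¹ = z * c := by rw [hc, mul_inv_cancel_left]
    have hgx : g * x * g⁻¹ = x * z := by rw [hz, mul_inv_cancel_left]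
    have hzc : Commute z c := hcom z hzV c hcV
    have hi : ∀ i : ℕ, g ^ i * x * (g ^ i)⁻¹ = x * z ^ i * c ^ i.choose 2 := by
      intro i
      induction i with
      | zero => simp
      | succ i hi =>
        calc g ^ (i + 1) * x * (g ^ (i + 1))⁻¹ = g * (g ^ i * x * (g ^ i)⁻¹) * g⁻¹ := by
              rw [pow_succ']; group
          _ = g * (x * z ^ i * c ^ i.choose 2) * g⁻¹ := by rw [hi]
          _ = (g * x * g⁻¹) * (g * z ^ i * g⁻¹) * (g * c ^ i.choose 2 * g⁻¹) := by group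
          _ = x * z * (z ^ i * c ^ i) * c ^ i.choose 2 := by
              rw [← conj_pow, ← conj_pow, hgx, hgz', hgc, hzc.mul_pow]
          _ = x * z ^ (i + 1) * c ^ (i + 1).choose 2 := by
              rw [Nat.choose_succ_succ' i 1, Nat.choose_one_right, pow_add c, pow_succ' z i]
              simp only [mul_assoc]
    have hxp := hi p
    rw [GenA.RankTwo.pow_eq_one_of_dvd hcp (GenA.RankTwo.prime_dvd_choose_two hp), hg, one_mul,
      inv_one, mul_one, mul_one] at hxp
    exact left_eq_mul.mp hxp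

/-- The faithful case without systems of imprimitivity. -/
theorem escapes_of_not_block (hp : p ≠ 2) {V P L : Subgroup G} (A : Act p V P L)
    (hno : ∀ W, ¬ Block V L W) (hfaith : P ⊓ centralizer (V : Set G) = ⊥) {a : G} (ha : a ∈ P)
    (hap : a ^ p = 1) (ha1 : a ≠ 1) : Escapes V L a := by
  classical
  have hp' : p.Prime := Fact.out
  have hPn : ∀ l ∈ L, ∀ x ∈ P, l * x * l⁻¹ ∈ P := fun l hl x hx => conj_mem A.nP hl hx
  -- the central elements of order `p`
  let Z0 : Subgroup G :=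
    { carrier := {x | x ∈ P ∧ x ^ p = 1 ∧ ∀ h ∈ P, h * x = x * h}
      one_mem' := ⟨one_mem _, one_pow _, fun h _ => by rw [mul_one, one_mul]⟩
      mul_mem' := fun {x y} hx hy => ⟨mul_mem hx.1 hy.1, by
          rw [(show Commute x y from hy.2.2 x hx.1).mul_pow, hx.2.1, hy.2.1, one_mul],
        fun h hh => ((show Commute h x from hx.2.2 h hh).mul_right (hy.2.2 h hh)).eq⟩
      inv_mem' := fun {x} hx => ⟨inv_mem hx.1, by rw [inv_pow, hx.2.1, inv_one],
        fun h hh => (show Commute h x from hx.2.2 h hh).inv_right.eq⟩ }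
  have hZP : Z0 ≤ P := fun x hx => hx.1
  have hZp : ∀ c ∈ Z0, c ^ p = 1 := fun c hc => hc.2.1
  have hZc : ∀ g ∈ P, ∀ c ∈ Z0, g * c = c * g := fun g hg c hc => hc.2.2 g hg
  have hZn : L ≤ normalizer (Z0 : Set G) := le_normalizer_conj fun l hl x hx => ⟨hPn l hl x hx.1,
    by rw [conj_pow, hx.2.1, mul_one, mul_inv_cancel],
    fun h hh => by
      have h1 : l⁻¹ * h * l ∈ P := by simpa using hPn _ (inv_mem hl) h hh
      calc h * (l * x * l⁻¹) = l * (l⁻¹ * h * l * x) * l⁻¹ := by group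
        _ = l * (x * (l⁻¹ * h * l)) * l⁻¹ := by rw [hx.2.2 _ h1]
        _ = _ := by group⟩
  have hZcyc := isCyclic_of_not_block A hno hfaith hZP hZn fun x hx y hy => hZc x hx.1 y hy
  obtain ⟨z, hzP, hzp, hz1, hzc⟩ : ∃ z ∈ P, z ^ p = 1 ∧ z ≠ 1 ∧ ∀ h ∈ P, h * z = z * h := by
    have : Nontrivial P := ⟨⟨⟨a, ha⟩, 1, fun e => ha1 (congrArg Subtype.val e)⟩⟩
    have hc : Nontrivial (center P) := A.isP.center_nontrivial
    obtain ⟨n, hn⟩ := IsPGroup.iff_card.mp (A.isP.to_subgroup (center P))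
    have hdvd : p ∣ Nat.card (center P) := by
      rw [hn]
      refine dvd_pow_self p fun e => ?_
      rw [e, pow_zero] at hn
      exact (Finite.one_lt_card (α := center P)).ne' hn
    obtain ⟨x, hx⟩ := exists_prime_orderOf_dvd_card' p hdvd
    refine ⟨((x : P) : G), x.1.2, ?_, fun e => ?_, fun h hh =>
      congrArg Subtype.val (mem_center_iff.mp x.2 ⟨h, hh⟩)⟩
    · have := congrArg (fun y : center P => ((y : P) : G)) (orderOf_dvd_iff_pow_eq_one.mp hx.dvd)
      simpa using this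
    · have : x = 1 := Subtype.ext (Subtype.ext e)
      rw [this, orderOf_one] at hx
      exact hp'.one_lt.ne hx
  have hZcard : Nat.card Z0 = p := by
    obtain ⟨g, hg⟩ := hZcyc.exists_generator
    refine le_antisymm ?_ ?_
    · rw [← orderOf_eq_card_of_forall_mem_zpowers hg, ← orderOf_coe]
      exact Nat.le_of_dvd hp'.pos (orderOf_dvd_of_pow_eq_one (hZp g g.2))
    · have h1 : zpowers z ≤ Z0 := zpowers_le.mpr ⟨hzP, hzp, hzc⟩
      have h2 := Nat.le_of_dvd Nat.card_pos (card_dvd_of_le h1)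
      rwa [Nat.card_zpowers, orderOf_eq_prime hzp hz1] at h2
  have hZgen : ∀ c ∈ Z0, c ≠ 1 → Z0 = zpowers c := fun c hc hc1 =>
    (eq_of_le_of_card_ge (zpowers_le.mpr hc) (by
      rw [hZcard, Nat.card_zpowers, orderOf_eq_prime (hZp c hc) hc1])).symm
  -- they fix no vector
  have hZfix : ∀ c ∈ Z0, c ≠ 1 → ∀ v ∈ V, c * v = v * c → v = 1 := by
    intro c hc hc1 v hv hcv
    have hn : L ≤ normalizer ((V ⊓ centralizer (Z0 : Set G) : Subgroup G) : Set G) :=
      (le_inf A.nV (hZn.trans fun g hg => by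
        rw [mem_normalizer_iff]
        intro w
        rw [mem_centralizer_iff, mem_centralizer_iff]
        constructor
        · intro h k hk
          have h1 := h (g⁻¹ * k * g) (by
            have := (mem_normalizer_iff.mp (inv_mem hg) k).mp hk
            rwa [inv_inv] at this)
          calc k * (g * w * g⁻¹) = g * (g⁻¹ * k * g * w) * g⁻¹ := by group
            _ = g * (w * (g⁻¹ * k * g)) * g⁻¹ := by rw [h1]
            _ = _ := by group
        · intro h k hk
          have h1 := h (g * k * g⁻¹) ((mem_normalizer_iff.mp hg k).mp hk)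
          calc k * w = g⁻¹ * (g * k * g⁻¹ * (g * w * g⁻¹)) * g := by group
            _ = g⁻¹ * (g * w * g⁻¹ * (g * k * g⁻¹)) * g := by rw [h1]
            _ = _ := by group)).trans inf_normalizer_le_normalizer_inf
    have hvC : v ∈ V ⊓ centralizer (Z0 : Set G) := mem_inf.mpr ⟨hv, mem_centralizer_iff.mpr fun k hk => by
      rw [hZgen c hc hc1] at hk
      obtain ⟨i, rfl⟩ := mem_zpowers_iff.mp hk
      exact ((show Commute c v from hcv).zpow_left i).eq⟩
    rcases A.irr _ inf_le_left hn with h | h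
    · rw [h, mem_bot] at hvC; exact hvC
    · refine absurd ?_ hc1
      rw [← mem_bot, ← hfaith]
      exact mem_inf.mpr ⟨hZP hc, mem_centralizer_iff.mpr fun w hw =>
        (mem_centralizer_iff.mp (mem_inf.mp (h.ge hw)).2 c hc).symm⟩
  -- the elements of order `p` central modulo `Z0`
  let Y : Subgroup G :=
    { carrier := {g | g ∈ P ∧ ∀ h ∈ P, g * h * g⁻¹ * h⁻¹ ∈ Z0}
      one_mem' := ⟨one_mem _, fun h _ => by simp⟩
      mul_mem' := fun {x y} hx hy => ⟨mul_mem hx.1 hy.1, fun h hh => by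
        have e : x * y * h * (x * y)⁻¹ * h⁻¹ =
            x * (y * h * y⁻¹ * h⁻¹) * x⁻¹ * (x * h * x⁻¹ * h⁻¹) := by group
        rw [e, hZc x hx.1 _ (hy.2 h hh), mul_inv_cancel_right]
        exact mul_mem (hy.2 h hh) (hx.2 h hh)⟩
      inv_mem' := fun {x} hx => ⟨inv_mem hx.1, fun h hh => by
        have e : x⁻¹ * h * x⁻¹⁻¹ * h⁻¹ = x⁻¹ * (x * h * x⁻¹ * h⁻¹)⁻¹ * x⁻¹⁻¹ := by group
        rw [e, hZc x⁻¹ (inv_mem hx.1) _ (inv_mem (hx.2 h hh)), mul_inv_cancel_right]
        exact inv_mem (hx.2 h hh)⟩ }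
  let E : Subgroup G :=
    { carrier := {g | g ∈ Y ∧ g ^ p = 1}
      one_mem' := ⟨one_mem _, one_pow _⟩
      mul_mem' := fun {x y} hx hy => ⟨mul_mem hx.1 hy.1, by
        have he : x⁻¹ * y * x⁻¹⁻¹ * y⁻¹ ∈ Z0 := (inv_mem hx.1).2 y hy.1.1
        rw [GenA.RankTwo.mul_pow_of_central hp (show Commute _ x from (hZc x hx.1.1 _ he).symm)
          (show Commute _ y from (hZc y hy.1.1 _ he).symm) (by group) (hZp _ he), hx.2, hy.2, one_mul]⟩
      inv_mem' := fun {x} hx => ⟨inv_mem hx.1, by rw [inv_pow, hx.2, inv_one]⟩ }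
  have hEP : E ≤ P := fun g hg => hg.1.1
  have hEp : ∀ g ∈ E, g ^ p = 1 := fun g hg => hg.2
  have hEcom : ∀ g ∈ E, ∀ h ∈ P, g * h * g⁻¹ * h⁻¹ ∈ Z0 := fun g hg => hg.1.2
  have hEZ : ∀ g ∈ E, ∀ c ∈ Z0, g * c = c * g := fun g hg => hZc g (hEP hg)
  have hZE : Z0 ≤ E := fun x hx => ⟨⟨hZP hx, fun h hh => by
    rw [← hZc h hh x hx]; simp⟩, hZp x hx⟩
  have hZY : ∀ {l : G}, l ∈ L → ∀ {g : G}, g ∈ E → l * g * l⁻¹ ∈ E := fun {l} hl {g} hg =>
    ⟨⟨hPn l hl g (hEP hg), fun h hh => by
      have h1 : l⁻¹ * h * l ∈ P := by simpa using hPn _ (inv_mem hl) h hh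
      have e : l * g * l⁻¹ * h * (l * g * l⁻¹)⁻¹ * h⁻¹ =
          l * (g * (l⁻¹ * h * l) * g⁻¹ * (l⁻¹ * h * l)⁻¹) * l⁻¹ := by group
      rw [e]
      exact conj_mem hZn hl (hEcom g hg _ h1)⟩, by rw [conj_pow, hEp g hg, mul_one, mul_inv_cancel]⟩
  have hEn : L ≤ normalizer (E : Set G) := le_normalizer_conj fun l hl g hg => hZY hl hg
  have hCn : L ≤ normalizer ((E ⊓ centralizer (E : Set G) : Subgroup G) : Set G) := by
    refine le_normalizer_conj fun l hl w hw => mem_inf.mpr ⟨hZY hl (mem_inf.mp hw).1,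
      mem_centralizer_iff.mpr fun k hk => ?_⟩
    have h1 := mem_centralizer_iff.mp (mem_inf.mp hw).2 _ (hZY (inv_mem hl) hk)
    calc k * (l * w * l⁻¹) = l * (l⁻¹ * k * l⁻¹⁻¹ * w) * l⁻¹ := by group
      _ = l * (w * (l⁻¹ * k * l⁻¹⁻¹)) * l⁻¹ := by rw [h1]
      _ = _ := by group
  have hZle : Z0 ≤ E ⊓ centralizer (E : Set G) := le_inf hZE fun c hc =>
    mem_centralizer_iff.mpr fun g hg => hEZ g hg c hc
  have hZE' : E ⊓ centralizer (E : Set G) = Z0 := by
    refine (eq_of_le_of_card_ge hZle ?_).symm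
    have hcyc := isCyclic_of_not_block A hno hfaith (B := E ⊓ centralizer (E : Set G))
      (inf_le_left.trans hEP) hCn
      fun x hx y hy => mem_centralizer_iff.mp (mem_inf.mp hy).2 x (mem_inf.mp hx).1
    obtain ⟨g, hg⟩ := hcyc.exists_generator
    rw [hZcard, ← orderOf_eq_card_of_forall_mem_zpowers hg, ← orderOf_coe]
    exact Nat.le_of_dvd hp'.pos (orderOf_dvd_of_pow_eq_one (hEp g (mem_inf.mp g.2).1))
  -- `P` is the product of `E` and its centraliser
  set D := P ⊓ centralizer (E : Set G) with hD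
  have hPle : Nat.card P * p ≤ Nat.card E * Nat.card D := by
    obtain ⟨K, -, ⟨hZK, hKE, hK⟩, hmax⟩ := Set.Finite.exists_le_maximal
      (Set.toFinite {K : Subgroup G | Z0 ≤ K ∧ K ≤ E ∧
        Nat.card P * p ≤ Nat.card K * Nat.card ↥(P ⊓ centralizer (K : Set G))}) (a := Z0)
      ⟨le_rfl, hZE, by
        rw [inf_eq_left.mpr (fun g hg => mem_centralizer_iff.mpr fun c hc => (hZc g hg c hc).symm),
          hZcard, mul_comm]⟩
    suffices K = E by rwa [this] at hK
    refine le_antisymm hKE fun x hx => ?_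
    by_contra hxK
    have hnorm : zpowers x ≤ normalizer (K : Set G) := zpowers_le.mpr
      (mem_normalizer_fintype fun k hk => by
        have e : x * k * x⁻¹ = x * k * x⁻¹ * k⁻¹ * k := by group
        rw [e]
        exact mul_mem (hZK (hEcom x hx k (hEP (hKE hk)))) hk)
    have hxo : orderOf x = p := orderOf_eq_prime (hEp x hx) fun e => hxK (e ▸ one_mem K)
    have hdis : Disjoint K (zpowers x) := by
      rw [disjoint_iff, eq_bot_iff]
      intro w hw
      by_contra hw1
      obtain ⟨hwK, hwx⟩ := mem_inf.mp hw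
      have hwp : w ^ p = 1 := hEp w (hKE hwK)
      have : zpowers w = zpowers x := eq_of_le_of_card_ge (zpowers_le.mpr hwx) (by
        rw [Nat.card_zpowers, Nat.card_zpowers, hxo, orderOf_eq_prime hwp (by simpa using hw1)])
      exact hxK ((zpowers_le.mpr hwK) (this.ge (mem_zpowers x)))
    have hcard := Coprime.card_sup_of_disjoint hnorm hdis
    rw [Nat.card_zpowers, hxo] at hcard
    have hcm := card_le_mul (A := P ⊓ centralizer (K : Set G)) (Z := Z0) (x := x)
      (fun g hg => by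
        have := inv_mem (hEcom x hx g (mem_inf.mp hg).1)
        simpa [mul_assoc] using this)
      (fun g hg => hZc g (mem_inf.mp hg).1) (fun c hc d hd => hZc c (hZP hc) d hd)
    rw [hZcard] at hcm
    have hle : P ⊓ centralizer (K : Set G) ⊓ centralizer ({x} : Set G) ≤
        P ⊓ centralizer ((K ⊔ zpowers x : Subgroup G) : Set G) := by
      refine le_inf (inf_le_left.trans inf_le_left) (le_centralizer_iff.mpr (sup_le
        (le_centralizer_iff.mp (inf_le_left.trans inf_le_right)) (zpowers_le.mpr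
          (mem_centralizer_iff.mpr fun g hg => mem_centralizer_singleton_iff.mp (mem_inf.mp hg).2))))
    have hmem : K ⊔ zpowers x ≤ K := hmax ⟨hZK.trans le_sup_left, sup_le hKE (zpowers_le.mpr hx), by
      calc Nat.card P * p ≤ Nat.card K * Nat.card ↥(P ⊓ centralizer (K : Set G)) := hK
        _ ≤ Nat.card K * (p * Nat.card ↥(P ⊓ centralizer (K : Set G) ⊓ centralizer ({x} : Set G))) :=
          Nat.mul_le_mul_left _ hcm
        _ ≤ Nat.card K * (p * Nat.card ↥(P ⊓ centralizer ((K ⊔ zpowers x : Subgroup G) : Set G))) :=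
          Nat.mul_le_mul_left _ (Nat.mul_le_mul_left _ (Nat.le_of_dvd Nat.card_pos (card_dvd_of_le hle)))
        _ = _ := by rw [hcard]; ring⟩ le_sup_left
    exact hxK (hmem (mem_sup_right (mem_zpowers x)))
  have hDn : L ≤ normalizer (D : Set G) := le_normalizer_conj fun l hl w hw =>
    mem_inf.mpr ⟨hPn l hl w (mem_inf.mp hw).1, mem_centralizer_iff.mpr fun k hk => by
      have h1 := mem_centralizer_iff.mp (mem_inf.mp hw).2 _ (hZY (inv_mem hl) hk)
      calc k * (l * w * l⁻¹) = l * (l⁻¹ * k * l⁻¹⁻¹ * w) * l⁻¹ := by group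
        _ = l * (w * (l⁻¹ * k * l⁻¹⁻¹)) * l⁻¹ := by rw [h1]
        _ = _ := by group⟩
  -- the centraliser of `E` has no further elements of order `p`
  have hDp : ∀ g ∈ D, g ^ p = 1 → g ∈ Z0 := by
    have := A.isP.isNilpotent
    suffices h : ∀ i, ∀ g : P, g ∈ Subgroup.upperCentralSeries P i → (g : G) ∈ D → (g : G) ^ p = 1 → (g : G) ∈ Z0 by
      obtain ⟨n, hn⟩ := (Group.isNilpotent_iff (G := P)).mp this
      exact fun g hg => h n ⟨g, (mem_inf.mp hg).1⟩ (hn ▸ mem_top _) hg
    intro i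
    induction i with
    | zero =>
      intro g hg _ _
      rw [Subgroup.upperCentralSeries_zero, mem_bot] at hg
      rw [hg]; exact one_mem _
    | succ i ih =>
      intro g hg hgD hgp
      set V0 := D ⊓ (Subgroup.upperCentralSeries P i).map P.subtype with hV0
      have hV0P : V0 ≤ P := inf_le_left.trans inf_le_left
      have hV0u : ∀ w ∈ V0, w ^ p = 1 → w ∈ Z0 := by
        intro w hw hwp
        obtain ⟨⟨w', hw'⟩, hwi, rfl⟩ := (mem_inf.mp hw).2
        exact ih ⟨w', hw'⟩ hwi (mem_inf.mp hw).1 hwp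
      have hV0cyc : IsCyclic V0 := GenA.RankTwo.isCyclic_of_unique hp (A.isP.to_le hV0P) hzp
        fun w hw hwp => (hZgen z ⟨hzP, hzp, hzc⟩ hz1).le (hV0u w hw hwp)
      have hcomm : ∀ x ∈ V0, ∀ y ∈ V0, x * y = y * x := fun x hx y hy => by
        obtain ⟨e, he⟩ := hV0cyc.exists_generator
        obtain ⟨r, hr⟩ := mem_zpowers_iff.mp (he ⟨x, hx⟩)
        obtain ⟨s, hs⟩ := mem_zpowers_iff.mp (he ⟨y, hy⟩)
        exact congrArg Subtype.val (hr ▸ hs ▸ ((Commute.refl e).zpow_zpow r s).eq :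
          (⟨x, hx⟩ * ⟨y, hy⟩ : V0) = ⟨y, hy⟩ * ⟨x, hx⟩)
      have hconjV0 : ∀ x ∈ V0, (g : G) * x * (g : G)⁻¹ ∈ V0 := by
        intro x hx
        refine mem_inf.mpr ⟨mul_mem (mul_mem hgD (mem_inf.mp hx).1) (inv_mem hgD), ?_⟩
        obtain ⟨x', hx', rfl⟩ := (mem_inf.mp hx).2
        exact ⟨g * x' * g⁻¹, Normal.conj_mem inferInstance x' hx' g, rfl⟩
      refine hZE'.le (mem_inf.mpr ⟨⟨⟨g.2, fun h hh => ?_⟩, hgp⟩, (mem_inf.mp hgD).2⟩)
      set v := (g : G) * h * (g : G)⁻¹ * h⁻¹ with hv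
      have hvV : v ∈ V0 := by
        refine mem_inf.mpr ⟨?_, ?_⟩
        · have e : v = (g : G) * (h * (g : G)⁻¹ * h⁻¹) := by rw [hv]; group
          rw [e]
          exact mul_mem hgD (conj_mem hDn (A.PL hh) (inv_mem hgD))
        · refine ⟨⁅g, (⟨h, hh⟩ : P)⁆, Subgroup.mem_upperCentralSeries_succ_iff.mp hg ⟨h, hh⟩, ?_⟩
          rfl
      refine hV0u v hvV ?_
      have hfix : ∀ y ∈ V0, y ^ p = 1 → Commute (g : G) y := fun y hy hyp =>
        hZc g g.2 y (hV0u y hy hyp)
      obtain ⟨n, hn⟩ := IsPGroup.iff_card.mp (A.isP.to_le hV0P)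
      have hvn : v ^ p ^ n = 1 := hn ▸ congrArg Subtype.val (pow_card_eq_one' (x := (⟨v, hvV⟩ : V0)))
      have he := moved_pow_eq_one hp hcomm hconjV0 hgp hfix n v hvV hvn
      set e := v⁻¹ * ((g : G) * v * (g : G)⁻¹) with hedef
      have heV : e ∈ V0 := mul_mem (inv_mem hvV) (hconjV0 v hvV)
      have heZ : e ∈ Z0 := hV0u e heV he
      have h1 : v * (g : G)⁻¹ = (g : G)⁻¹ * e * v := by
        calc v * (g : G)⁻¹ = (g : G)⁻¹ * (v * e) := by rw [hedef, mul_inv_cancel_left]; group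
          _ = (g : G)⁻¹ * (e * v) := by rw [hcomm v hvV e heV]
          _ = _ := (mul_assoc _ _ _).symm
      have h2 := GenA.RankTwo.mul_pow_of_central hp
        (show Commute e (g : G)⁻¹ from (hZc _ (inv_mem g.2) e heZ).symm)
        (show Commute e v from (hcomm v hvV e heV).symm) h1 he
      have h3 : (g : G)⁻¹ * v = h * (g : G)⁻¹ * h⁻¹ := by rw [hv]; group
      rw [h3, conj_pow, inv_pow, hgp, inv_one, mul_one, mul_inv_cancel, one_mul] at h2
      exact h2.symm
  have haE : a ∈ E := by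
    have hED : E ⊔ D = P := by
      refine eq_of_le_of_card_ge (sup_le hEP inf_le_left) ?_
      have hDE : D ≤ normalizer (E : Set G) := (inf_le_left.trans A.PL).trans hEn
      have hinf : E ⊓ D = Z0 := by
        rw [hD, ← inf_assoc, inf_eq_left.mpr hEP, hZE']
      refine Nat.le_of_mul_le_mul_right ?_ hp'.pos
      calc Nat.card P * p ≤ Nat.card E * Nat.card D := hPle
        _ = _ := by
          rw [sup_comm, mul_comm, ← PLocal.GlaubermanReplacement.card_sup_mul_card_inf hDE, inf_comm, hinf, hZcard]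
    obtain ⟨e, he, d, hd, hed⟩ := (Coprime.mem_sup_of_le_normalizer
      ((inf_le_left.trans A.PL).trans hEn)).mp (hED.ge ha)
    have hed' : Commute e d := mem_centralizer_iff.mp (mem_inf.mp hd).2 e he
    have hdp : d ^ p = 1 := by
      rw [← hed, hed'.mul_pow, hEp e he, one_mul] at hap
      exact hap
    exact hed ▸ mul_mem he (hZE (hDp d hd hdp))
  have hconjE : ∀ l ∈ L, l * a * l⁻¹ ∈ E := fun l hl => hZY hl haE
  by_cases haZ : a ∈ Z0
  · obtain ⟨v, hv⟩ := Subgroup.ne_bot_iff_exists_ne_one.mp A.ne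
    refine ⟨v, v.2, fun l hl hc => hv (Subtype.ext ?_)⟩
    exact hZfix _ (conj_mem hZn hl haZ) (by simpa using ha1) v v.2 hc.eq
  by_contra hcon
  unfold Escapes at hcon
  push Not at hcon
  have hfin : ∀ S : Subgroup G, ((S : Set G).toFinite.toFinset).card = Nat.card S := fun S => by
    rw [← Set.ncard_eq_toFinset_card]; exact (Nat.card_coe_set_eq _).symm
  set sV : Finset G := (V : Set G).toFinite.toFinset.erase 1 with hsV
  set tE : Finset G := (E : Set G).toFinite.toFinset.filter fun g => g ∉ Z0 with htE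
  have hsc : sV.card = Nat.card V - 1 := by
    rw [hsV, Finset.card_erase_of_mem (by simp), hfin]
  have htc : tE.card + p = Nat.card E := by
    have := Finset.card_filter_add_card_filter_not (s := (E : Set G).toFinite.toFinset)
      (fun g => g ∉ Z0)
    rw [hfin] at this
    rw [← this, htE, ← hZcard, ← hfin Z0]
    congr 1
    congr 1
    ext g
    simpa using fun hg => hZE hg
  obtain ⟨b, hb, hbmax⟩ := tE.exists_max_image
    (fun g => Nat.card ↥(V ⊓ centralizer ({g} : Set G)))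
    ⟨a, by rw [htE, Finset.mem_filter]; exact ⟨by simpa using haE, haZ⟩⟩
  rw [htE, Finset.mem_filter, Set.Finite.mem_toFinset, SetLike.mem_coe] at hb
  obtain ⟨Wb, hWb, hWne, hpow, hbound⟩ := (card_le_pow hp A.comm A.cop hZp hZcard hZfix E hZE hEZ hEp
    (fun g hg h hh => hEcom g hg h (hEP hh)) V le_rfl A.ne ((hEP.trans A.PL).trans A.nV)).2 b hb.1
      fun h => hb.2 (hZE'.le (mem_inf.mpr ⟨hb.1, h⟩))
  set c := Nat.card Wb with hc
  rw [hZE', hZcard] at hbound
  have hE : Nat.card E ≤ (p - 1) * c ^ (p - 1) := by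
    refine Nat.le_of_mul_le_mul_left ?_ (pow_pos hp'.pos 3)
    calc p ^ 3 * Nat.card E ≤ p ^ 2 * (p - 1) * c ^ (p - 1) * p := hbound
      _ = _ := by ring
  have hcount : sV.card * (p - 1) ≤ tE.card * (c - 1) := by
    refine Finset.card_mul_le_card_mul (fun v g => g * v = v * g) (fun v hv => ?_) (fun g hg => ?_)
    · rw [hsV, Finset.mem_erase, Set.Finite.mem_toFinset, SetLike.mem_coe] at hv
      obtain ⟨l, hl, hlc⟩ := hcon v hv.2
      set g := l * a * l⁻¹ with hg
      have hgp : g ^ p = 1 := hEp g (hconjE l hl)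
      have hg1 : g ≠ 1 := by rw [hg]; simpa using ha1
      have hgo : orderOf g = p := orderOf_eq_prime hgp hg1
      have hgZ : g ∉ Z0 := fun h => haZ (by
        have := conj_mem hZn (inv_mem hl) h
        simpa [hg, mul_assoc] using this)
      calc p - 1 = (Finset.Ico 1 p).card := by simp
        _ ≤ _ := Finset.card_le_card_of_injOn (fun i => g ^ i) (fun i hi => by
          obtain ⟨hi1, hi2⟩ := Finset.mem_Ico.mp hi
          refine Finset.mem_filter.mpr ⟨?_, (hlc.pow_left i).eq⟩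
          rw [htE, Finset.mem_filter, Set.Finite.mem_toFinset]
          refine ⟨pow_mem (hconjE l hl) i, fun h => hgZ ?_⟩
          have hne : g ^ i ≠ 1 := pow_ne_one_of_lt_orderOf (by omega) (by omega)
          have : zpowers (g ^ i) = zpowers g := eq_of_le_of_card_ge
            (zpowers_le.mpr (pow_mem (mem_zpowers g) i)) (by
              rw [Nat.card_zpowers, Nat.card_zpowers, hgo,
                orderOf_eq_prime (by rw [← pow_mul, mul_comm, pow_mul, hgp, one_pow]) hne])
          exact zpowers_le.mpr h (this.ge (mem_zpowers g)))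
          fun i hi j hj hij => pow_injOn_Iio_orderOf
            (by rw [hgo]; exact (Finset.mem_Ico.mp (Finset.mem_coe.mp hi)).2)
            (by rw [hgo]; exact (Finset.mem_Ico.mp (Finset.mem_coe.mp hj)).2) hij
    · calc _ ≤ (((V ⊓ centralizer ({g} : Set G) : Subgroup G) : Set G).toFinite.toFinset.erase 1).card := by
            refine Finset.card_le_card fun v hv => ?_
            rw [Finset.mem_bipartiteBelow, hsV, Finset.mem_erase, Set.Finite.mem_toFinset] at hv
            rw [Finset.mem_erase, Set.Finite.mem_toFinset]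
            exact ⟨hv.1.1, mem_inf.mpr ⟨hv.1.2, mem_centralizer_singleton_iff.mpr hv.2.symm⟩⟩
        _ ≤ c - 1 := by
            rw [Finset.card_erase_of_mem (by simp), hfin, hc, hWb]
            exact Nat.sub_le_sub_right (hbmax g hg) 1
  rw [hsc] at hcount
  have hc2 : 2 ≤ c := Wb.one_lt_card_iff_ne_bot.mpr hWne
  have h1 : tE.card * (c - 1) < ((p - 1) * c ^ (p - 1)) * (c - 1) :=
    Nat.mul_lt_mul_of_pos_right (by have := hp'.pos; omega) (by omega)
  have h2 : c ^ (p - 1) * (c - 1) ≤ c ^ p - 1 := by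
    rw [Nat.mul_sub_one, ← pow_succ, Nat.sub_add_cancel hp'.pos]
    exact Nat.sub_le_sub_left (Nat.one_le_pow _ _ (by omega)) _
  refine lt_irrefl _ (hcount.trans_lt (h1.trans_le ?_))
  rw [mul_assoc, mul_comm (Nat.card V - 1)]
  exact Nat.mul_le_mul_left _ (h2.trans (Nat.sub_le_sub_right hpow 1))

end Cfsg.Agent.LocalFlavell.BaerSuzuki
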