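import Cfsg.Agent.LocalFlavell.BaerSuzukiBlock
import Cfsg.Agent.Lib.Coprime.PGroup
import Cfsg.Agent.GenA.RankTwo.Basic

/-!
The primitive case: without systems of imprimitivity the elements of order `p` of `P` form a group
of extraspecial type with fixed point free centre, and a count shows that some vector escapes.
-/

set_option autoImplicit false
set_option linter.unusedSectionVars false

namespace Cfsg.Agent.LocalFlavell.BaerSuzuki

open Subgroup
open scoped Pointwise

universe u

variable {G : Type u} [Group G] [Finite G] {p : ℕ} [Fact p.Prime]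

theorem le_normalizer_conj {A M : Subgroup G} (h : ∀ g ∈ A, ∀ m ∈ M, g * m * g⁻¹ ∈ M) :
    A ≤ normalizer (M : Set G) :=
  fun g hg => mem_normalizer_fintype fun m hm => h g hg m hm

theorem conj_mem {A M : Subgroup G} (h : A ≤ normalizer (M : Set G)) {g m : G} (hg : g ∈ A) (hm : m ∈ M) :
    g * m * g⁻¹ ∈ M :=
  (mem_normalizer_iff.mp (h hg) m).mp hm

/-- An elementary abelian `p`-group `B` acting coprimely on `V` without fixed points gives blocks. -/
theorem isCyclic_of_not_block {V P L B : Subgroup G} (A : Act p V P L)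
    (hno : ∀ W, ¬ Block V L W) (hfaith : P ⊓ centralizer (V : Set G) = ⊥) (hB : B ≤ P)
    (hBn : L ≤ normalizer (B : Set G)) (hBab : ∀ a ∈ B, ∀ b ∈ B, a * b = b * a) : IsCyclic B := by
  classical
  by_contra hnc
  have : IsMulCommutative B := ⟨⟨fun a b => Subtype.ext (hBab a a.2 b b.2)⟩⟩
  have hBV : B ≤ normalizer (V : Set G) := hB.trans (A.PL.trans A.nV)
  have hcop : (Nat.card B).Coprime (Nat.card V) := by
    obtain ⟨k, hk⟩ := IsPGroup.iff_card.mp (A.isP.to_le hB)
    rw [hk]
    exact Nat.Coprime.pow_left k ((Fact.out : p.Prime).coprime_iff_not_dvd.mpr A.cop)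
  have hgen := Coprime.fixedGen_eq hnc hBV hcop
  obtain ⟨b, hb, hb1, hbne⟩ : ∃ b ∈ B, b ≠ 1 ∧ V ⊓ centralizer ({b} : Set G) ≠ ⊥ := by
    by_contra hcon
    push Not at hcon
    refine A.ne (hgen.symm.trans (le_bot_iff.mp ?_))
    exact iSup₂_le fun b hb => (hcon b hb.1 hb.2).le
  obtain ⟨B0, -, ⟨hB0B, hB0ne, hB0C⟩, hmax⟩ := Set.Finite.exists_le_maximal
    (Set.toFinite {B0 : Subgroup G | B0 ≤ B ∧ B0 ≠ ⊥ ∧ V ⊓ centralizer (B0 : Set G) ≠ ⊥})
    (a := zpowers b) ⟨zpowers_le.mpr hb, by simpa using hb1, fun e => hbne (le_bot_iff.mp (by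
      rw [← e]
      refine inf_le_inf_left V ?_
      rw [le_centralizer_iff, zpowers_le]
      exact mem_centralizer_iff.mpr fun x hx => mem_centralizer_singleton_iff.mp hx))⟩
  set W := V ⊓ centralizer (B0 : Set G) with hW
  refine hno W ⟨inf_le_left, hB0C, fun e => hB0ne (le_bot_iff.mp ?_), fun S hS => ?_⟩
  · rw [← hfaith]
    exact le_inf (hB0B.trans hB) (le_centralizer_iff.mp (e.ge.trans inf_le_right))
  -- projections
  have : IsMulCommutative V := ⟨⟨fun a b => Subtype.ext (A.comm a a.2 b b.2)⟩⟩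
  let _ : CommGroup V := { mul_comm := fun a b => Subtype.ext (A.comm a a.2 b b.2) }
  have horb : ∀ U ∈ orb L W, ∃ B' : Subgroup G, B' ≤ B ∧ Nat.card B' = Nat.card B0 ∧
      U = V ⊓ centralizer (B' : Set G) ∧
      ∀ B'' : Subgroup G, B'' ≤ B → B' < B'' → V ⊓ centralizer (B'' : Set G) = ⊥ := by
    rintro U ⟨l, hl, rfl⟩
    have hBl : MulAut.conj l • B = B := Coprime.conj_smul_eq_self_iff.mpr (hBn hl)
    have hVl : MulAut.conj l • V = V := Coprime.conj_smul_eq_self_iff.mpr (A.nV hl)
    have hcen : ∀ K : Subgroup G, MulAut.conj l • (V ⊓ centralizer (K : Set G)) =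
        V ⊓ centralizer ((MulAut.conj l • K : Subgroup G) : Set G) := by
      intro K
      ext x
      rw [Coprime.mem_conj_smul, mem_inf, mem_inf]
      refine and_congr ?_ ?_
      · rw [← Coprime.mem_conj_smul, hVl]
      · rw [mem_centralizer_iff, mem_centralizer_iff]
        constructor
        · intro h k hk
          have := h _ (Coprime.mem_conj_smul.mp hk)
          calc k * x = l * (l⁻¹ * k * l * (l⁻¹ * x * l)) * l⁻¹ := by group
            _ = l * (l⁻¹ * x * l * (l⁻¹ * k * l)) * l⁻¹ := by rw [this]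
            _ = _ := by group
        · intro h k hk
          have := h _ (Coprime.conj_mem_conj_smul (g := l) hk)
          calc k * (l⁻¹ * x * l) = l⁻¹ * (l * k * l⁻¹ * x) * l := by group
            _ = l⁻¹ * (x * (l * k * l⁻¹)) * l := by rw [this]
            _ = _ := by group
    refine ⟨MulAut.conj l • B0, hBl ▸ Subgroup.pointwise_smul_le_pointwise_smul_iff.mpr hB0B,
      Coprime.card_conj_smul _ _, hcen B0, fun B'' hle hlt => ?_⟩
    by_contra hne
    obtain ⟨K, rfl⟩ : ∃ K, B'' = MulAut.conj l • K := ⟨(MulAut.conj l)⁻¹ • B'', (smul_inv_smul _ _).symm⟩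
    rw [← hcen K] at hne
    have hK : K ≤ B := by
      rw [← Subgroup.pointwise_smul_le_pointwise_smul_iff (a := MulAut.conj l), hBl]; exact hle
    have hlt' : B0 < K := lt_of_le_not_ge (Subgroup.pointwise_smul_le_pointwise_smul_iff.mp hlt.le)
      fun h => hlt.not_ge (Subgroup.pointwise_smul_le_pointwise_smul_iff.mpr h)
    exact hlt'.not_ge (hmax ⟨hK, fun e => hB0ne (le_bot_iff.mp (e ▸ hlt'.le)),
      fun e => hne (by rw [e, Subgroup.smul_bot])⟩ hlt'.le)
  choose! β hβB hβc hβU hβmax using horb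
  have hact : ∀ U ∈ orb L W, ∀ c : ↥(β U), ∀ v : V, (c : G) * v * (c : G)⁻¹ ∈ V :=
    fun U hU c v => conj_mem hBV (hβB U hU c.2) v.2
  have key : ∀ S : Set (Subgroup G), S.Finite → S ⊆ orb L W → ∀ x ∈ sSup S,
      (∀ U ∈ S, ∀ (F : V →* V), (∀ (v : V), ∀ Y ∈ orb L W, Y ≠ U → (v : G) ∈ Y → F v = 1) →
        (∀ v : V, (v : G) ∈ U → F v = v ^ Nat.card B0) → ∀ hx : x ∈ V, F ⟨x, hx⟩ = 1) →
      (∀ U ∈ S, ∃ F : V →* V, (∀ (v : V), ∀ Y ∈ orb L W, Y ≠ U → (v : G) ∈ Y → F v = 1) ∧
        ∀ v : V, (v : G) ∈ U → F v = v ^ Nat.card B0) → x = 1 := by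
    intro S hS
    induction S, hS using Set.Finite.induction_on with
    | empty => intro _ x hx _ _; simpa using hx
    | @insert U S hUS _ ih =>
      intro hsub x hx hkill hex
      rw [sSup_insert] at hx
      have hSsub := (Set.subset_insert U S).trans hsub
      have hUo := hsub (Set.mem_insert U S)
      have hUV : U ≤ V := orb_le A.nV inf_le_left hUo
      have hSV : sSup S ≤ V := sSup_orb_le A.nV inf_le_left hSsub
      obtain ⟨u, hu, y, hy, rfl⟩ := (Coprime.mem_sup_of_le_normalizer (fun y hy =>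
        centralizer_le_normalizer _ (mem_centralizer_iff.mpr fun u hu =>
          A.comm u (hUV hu) y (hSV hy)))).mp hx
      obtain ⟨F, hF1, hF2⟩ := hex U (Set.mem_insert U S)
      have hkillS : ∀ {F : V →* V}, (∀ (v : V), ∀ Y ∈ orb L W, Y ≠ U → (v : G) ∈ Y → F v = 1) →
          ∀ hy' : y ∈ V, F ⟨y, hy'⟩ = 1 := by
        intro F hF hy'
        have hle : sSup S ≤ F.ker.map V.subtype := sSup_le fun Y hY z hz =>
          ⟨⟨z, orb_le A.nV inf_le_left (hSsub hY) hz⟩, hF _ Y (hSsub hY) (fun e => hUS (e ▸ hY)) hz, rfl⟩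
        obtain ⟨z, hz, hzy⟩ := hle hy
        rwa [show (⟨y, hy'⟩ : V) = z from Subtype.ext hzy.symm]
      have huy : u * y ∈ V := mul_mem (hUV hu) (hSV hy)
      have h1 := hkill U (Set.mem_insert U S) F hF1 hF2 huy
      rw [show (⟨u * y, huy⟩ : V) = ⟨u, hUV hu⟩ * ⟨y, hSV hy⟩ from rfl, map_mul, hkillS hF1, mul_one,
        hF2 ⟨u, hUV hu⟩ hu] at h1
      have hcop0 : (Nat.card B0).Coprime (Nat.card V) := hcop.coprime_dvd_left (card_dvd_of_le hB0B)
      have hu1 : (⟨u, hUV hu⟩ : V) = 1 := (powCoprime hcop0.symm).injective (h1.trans (one_pow _).symm)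
      have hu1' : u = 1 := congrArg Subtype.val hu1
      subst hu1'
      rw [one_mul]
      refine ih hSsub y hy (fun U' hU' F' hF'1 hF'2 hy' => ?_) fun U' hU' => hex U' (Set.mem_insert_of_mem U hU')
      have := hkill U' (Set.mem_insert_of_mem U hU') F' hF'1 hF'2 (by rwa [one_mul])
      simpa using this
  have hex : ∀ U ∈ orb L W, ∃ F : V →* V,
      (∀ (v : V), ∀ Y ∈ orb L W, Y ≠ U → (v : G) ∈ Y → F v = 1) ∧
        ∀ v : V, (v : G) ∈ U → F v = v ^ Nat.card B0 := by
    intro U hU
    have : Fintype ↥(β U) := Fintype.ofFinite _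
    let ρ : ↥(β U) → V → V := fun c v => ⟨_, hact U hU c v⟩
    let F : V →* V :=
      { toFun := fun v => ∏ c, ρ c v
        map_one' := Finset.prod_eq_one fun c _ => Subtype.ext (by simp [ρ])
        map_mul' := fun v w => by
          rw [← Finset.prod_mul_distrib]
          exact Finset.prod_congr rfl fun c _ => Subtype.ext (by simp [ρ, mul_assoc]) }
    refine ⟨F, fun v Y hY hYU hvY => ?_, fun v hv => ?_⟩
    · have hlt : β U < β U ⊔ β Y := left_lt_sup.mpr fun hle => hYU (by
        have e : β Y = β U := eq_of_le_of_card_ge hle (le_of_eq ((hβc U hU).trans (hβc Y hY).symm))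
        rw [hβU Y hY, e, ← hβU U hU])
      have hbot := hβmax U hU _ (sup_le (hβB U hU) (hβB Y hY)) hlt
      rw [hβU Y hY] at hvY
      have hFc : ((F v : V) : G) ∈ centralizer ((β U ⊔ β Y : Subgroup G) : Set G) := by
        have hboth : β U ⊔ β Y ≤ centralizer ({((F v : V) : G)} : Set G) := by
          refine sup_le (fun c hc => mem_centralizer_singleton_iff.mpr ?_)
            (fun c hc => mem_centralizer_singleton_iff.mpr ?_)
          · have h : F (ρ ⟨c, hc⟩ v) = F v :=
              Fintype.prod_equiv (Equiv.mulRight (⟨c, hc⟩ : ↥(β U))) _ _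
                fun a => Subtype.ext (by simp [ρ, mul_assoc])
            have h2 : ρ ⟨c, hc⟩ (F v) = F (ρ ⟨c, hc⟩ v) := by
              change ρ ⟨c, hc⟩ (∏ a, ρ a v) = ∏ a, ρ a (ρ ⟨c, hc⟩ v)
              let R : V →* V :=
                { toFun := ρ ⟨c, hc⟩
                  map_one' := Subtype.ext (by simp [ρ])
                  map_mul' := fun x y => Subtype.ext (by simp [ρ, mul_assoc]) }
              refine (map_prod R _ _).trans (Finset.prod_congr rfl fun a _ => Subtype.ext ?_)
              have hac : (a : G) * c = c * a := hBab a (hβB U hU a.2) c (hβB U hU hc)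
              change c * ((a : G) * v * (a : G)⁻¹) * c⁻¹ = (a : G) * (c * v * c⁻¹) * (a : G)⁻¹
              calc c * ((a : G) * v * (a : G)⁻¹) * c⁻¹ = (c * a) * v * (c * a)⁻¹ := by group
                _ = _ := by rw [← hac]; group
            exact mul_inv_eq_iff_eq_mul.mp (congrArg Subtype.val (h2.trans h))
          · let R : V →* V :=
              { toFun := fun w => ⟨_, hact Y hY ⟨c, hc⟩ w⟩
                map_one' := Subtype.ext (by simp)
                map_mul' := fun x y => Subtype.ext (by simp [mul_assoc]) }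
            have h3 : R (F v) = F v := by
              refine (map_prod R _ _).trans (Finset.prod_congr rfl fun a _ => Subtype.ext ?_)
              have hac : (a : G) * c = c * a := hBab a (hβB U hU a.2) c (hβB Y hY hc)
              have hcv : c * (v : G) = v * c := mem_centralizer_iff.mp (mem_inf.mp hvY).2 c hc
              change c * ((a : G) * v * (a : G)⁻¹) * c⁻¹ = (a : G) * v * (a : G)⁻¹
              calc c * ((a : G) * v * (a : G)⁻¹) * c⁻¹ = (c * a) * v * (c * a)⁻¹ := by group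
                _ = (a : G) * (c * v * c⁻¹) * (a : G)⁻¹ := by rw [← hac]; group
                _ = _ := by rw [hcv, mul_inv_cancel_right]
            exact mul_inv_eq_iff_eq_mul.mp (congrArg Subtype.val h3)
        exact mem_centralizer_iff.mpr fun c hc => mem_centralizer_singleton_iff.mp (hboth hc)
      exact Subtype.ext (mem_bot.mp (hbot ▸ mem_inf.mpr ⟨(F v).2, hFc⟩))
    · have : ∀ c : ↥(β U), ρ c v = v := fun c => Subtype.ext (by
        rw [hβU U hU] at hv
        change (c : G) * v * (c : G)⁻¹ = v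
        rw [mem_centralizer_iff.mp (mem_inf.mp hv).2 c c.2, mul_inv_cancel_right])
      change ∏ c, ρ c v = _
      rw [Finset.prod_congr rfl fun c _ => this c, Finset.prod_const, Finset.card_univ,
        ← Nat.card_eq_fintype_card, hβc U hU]
  rw [eq_bot_iff]
  intro x hx
  obtain ⟨hxS, hxT⟩ := mem_inf.mp hx
  refine mem_bot.mpr (key S (Set.toFinite S) hS x hxS (fun U hU F hF1 _ hxV => ?_) fun U hU => hex U (hS hU))
  have hle : sSup (orb L W \ S) ≤ F.ker.map V.subtype := sSup_le fun Y hY z hz =>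
    ⟨⟨z, orb_le A.nV inf_le_left hY.1 hz⟩, hF1 _ Y hY.1 (fun e => hY.2 (e ▸ hU)) hz, rfl⟩
  obtain ⟨z, hz, hzy⟩ := hle hxT
  rwa [show (⟨x, hxV⟩ : V) = z from Subtype.ext hzy.symm]

theorem card_le_mul {A Z : Subgroup G} {x : G} (hcom : ∀ g ∈ A, g * x * g⁻¹ * x⁻¹ ∈ Z)
    (hZ : ∀ g ∈ A, ∀ c ∈ Z, g * c = c * g) (hZZ : ∀ c ∈ Z, ∀ d ∈ Z, c * d = d * c) :
    Nat.card A ≤ Nat.card Z * Nat.card ↥(A ⊓ centralizer ({x} : Set G)) := by
  let F : A →* Z :=
    { toFun := fun g => ⟨_, hcom g g.2⟩
      map_one' := Subtype.ext (by simp)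
      map_mul' := fun g h => Subtype.ext (by
        change (g : G) * h * x * ((g : G) * h)⁻¹ * x⁻¹ = (g : G) * x * (g : G)⁻¹ * x⁻¹ * ((h : G) * x * (h : G)⁻¹ * x⁻¹)
        rw [hZZ _ (hcom g g.2) _ (hcom h h.2)]
        have h1 := hZ g g.2 _ (hcom h h.2)
        calc (g : G) * h * x * ((g : G) * h)⁻¹ * x⁻¹
            = ((g : G) * ((h : G) * x * (h : G)⁻¹ * x⁻¹)) * x * (g : G)⁻¹ * x⁻¹ := by group
          _ = (((h : G) * x * (h : G)⁻¹ * x⁻¹) * g) * x * (g : G)⁻¹ * x⁻¹ := by rw [h1]
          _ = _ := by group) }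
  have hker : (A ⊓ centralizer ({x} : Set G)) = F.ker.map A.subtype := by
    ext g
    constructor
    · intro hg
      obtain ⟨hgA, hgx⟩ := mem_inf.mp hg
      refine ⟨⟨g, hgA⟩, Subtype.ext ?_, rfl⟩
      change g * x * g⁻¹ * x⁻¹ = 1
      rw [mem_centralizer_singleton_iff.mp hgx, mul_inv_cancel_right, mul_inv_cancel]
    · rintro ⟨a, ha, rfl⟩
      refine mem_inf.mpr ⟨a.2, mem_centralizer_singleton_iff.mpr ?_⟩
      exact mul_inv_eq_iff_eq_mul.mp (mul_inv_eq_one.mp (congrArg Subtype.val ha))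
  rw [hker, card_map_of_injective A.subtype_injective, card_eq_card_quotient_mul_card_subgroup F.ker,
    Nat.card_congr (QuotientGroup.quotientKerEquivRange F).toEquiv]
  exact Nat.mul_le_mul_right _ (card_le_card_group F.range)

end Cfsg.Agent.LocalFlavell.BaerSuzuki
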