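import Cfsg.Agent.LocalFlavell.CommutatorFixed

/-! Invariant subgroups and the reduction to a quotient. -/

set_option autoImplicit false

namespace Cfsg.Agent.LocalFlavell.CommutatorFixed

open Subgroup
open scoped Pointwise commutatorElement

universe u

variable {G : Type u} [Group G]

/-- A subgroup of `H` normalised by `H` and by `x`. -/
structure Inv (x : G) (H M : Subgroup G) : Prop where
  le : M ≤ H
  nH : H ≤ normalizer (M : Set G)
  nx : zpowers x ≤ normalizer (M : Set G)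

theorem conj_mem_of_le {H M : Subgroup G} (h : H ≤ normalizer (M : Set G)) {g m : G} (hg : g ∈ H)
    (hm : m ∈ M) : g * m * g⁻¹ ∈ M :=
  (mem_normalizer_iff.mp (h hg) m).mp hm

theorem le_normalizer_of_conj [Finite G] {H M : Subgroup G}
    (h : ∀ g ∈ H, ∀ m ∈ M, g * m * g⁻¹ ∈ M) : H ≤ normalizer (M : Set G) :=
  fun g hg => mem_normalizer_fintype fun m hm => h g hg m hm

theorem le_normalizer_inf {A M N : Subgroup G} (h1 : A ≤ normalizer (M : Set G))
    (h2 : A ≤ normalizer (N : Set G)) : A ≤ normalizer ((M ⊓ N : Subgroup G) : Set G) :=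
  le_trans (le_inf h1 h2) Subgroup.inf_normalizer_le_normalizer_inf

theorem le_normalizer_centralizer {A M : Subgroup G} [Finite G] (h : A ≤ normalizer (M : Set G)) :
    A ≤ normalizer (centralizer (M : Set G) : Set G) := by
  refine le_normalizer_of_conj fun a ha c hc => mem_centralizer_iff.mpr fun m hm => ?_
  have h1 : a⁻¹ * m * a ∈ M := by simpa using conj_mem_of_le h (inv_mem ha) hm
  have := mem_centralizer_iff.mp hc _ h1
  calc m * (a * c * a⁻¹) = a * ((a⁻¹ * m * a) * c) * a⁻¹ := by group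
    _ = a * (c * (a⁻¹ * m * a)) * a⁻¹ := by rw [this]
    _ = _ := by group

theorem le_normalizer_commutator [Finite G] {A M N : Subgroup G} (h1 : A ≤ normalizer (M : Set G))
    (h2 : A ≤ normalizer (N : Set G)) : A ≤ normalizer ((⁅M, N⁆ : Subgroup G) : Set G) := by
  intro a ha
  rw [← Coprime.conj_smul_eq_self_iff, Coprime.conj_smul_commutator,
    Coprime.conj_smul_eq_self_iff.mpr (h1 ha), Coprime.conj_smul_eq_self_iff.mpr (h2 ha)]

theorem le_normalizer_sup {A M N : Subgroup G} (h1 : A ≤ normalizer (M : Set G))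
    (h2 : A ≤ normalizer (N : Set G)) : A ≤ normalizer ((M ⊔ N : Subgroup G) : Set G) := by
  intro a ha
  rw [← Coprime.conj_smul_eq_self_iff, Subgroup.smul_sup,
    Coprime.conj_smul_eq_self_iff.mpr (h1 ha), Coprime.conj_smul_eq_self_iff.mpr (h2 ha)]

/-- `A` centralising `M` normalises it. -/
theorem le_normalizer_of_centralizer [Finite G] {A M : Subgroup G} (h : A ≤ centralizer (M : Set G)) :
    A ≤ normalizer (M : Set G) :=
  le_normalizer_of_conj fun a ha m hm => by
    rw [← mem_centralizer_iff.mp (h ha) m hm, mul_inv_cancel_right]; exact hm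

theorem Inv.inf [Finite G] {x : G} {H M N : Subgroup G} (hM : Inv x H M) (hN : Inv x H N) :
    Inv x H (M ⊓ N) :=
  ⟨inf_le_left.trans hM.le, le_normalizer_inf hM.nH hN.nH, le_normalizer_inf hM.nx hN.nx⟩

theorem Inv.comm [Finite G] {x : G} {H M N : Subgroup G} (hM : Inv x H M) (hN : Inv x H N) :
    Inv x H ⁅M, N⁆ :=
  ⟨(le_normalizer_iff_commutator_le_left.mp (hN.le.trans hM.nH)).trans hM.le,
    le_normalizer_commutator hM.nH hN.nH, le_normalizer_commutator hM.nx hN.nx⟩

theorem Inv.sup [Finite G] {x : G} {H M N : Subgroup G} (hM : Inv x H M) (hN : Inv x H N) :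
    Inv x H (M ⊔ N) :=
  ⟨sup_le hM.le hN.le, le_normalizer_sup hM.nH hN.nH, le_normalizer_sup hM.nx hN.nx⟩

/-- The part of `M` centralising an invariant subgroup. -/
theorem Inv.inf_centralizer [Finite G] {x : G} {H M N : Subgroup G} (hM : Inv x H M) (hN : Inv x H N) :
    Inv x H (M ⊓ centralizer (N : Set G)) :=
  ⟨inf_le_left.trans hM.le, le_normalizer_inf hM.nH (le_normalizer_centralizer hN.nH),
    le_normalizer_inf hM.nx (le_normalizer_centralizer hN.nx)⟩

theorem inv_self (x : G) {H : Subgroup G} (hxH : x ∈ normalizer (H : Set G)) : Inv x H H :=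
  ⟨le_rfl, le_normalizer, by rw [zpowers_le]; exact hxH⟩

theorem exists_minimal [Finite G] {x : G} {H M : Subgroup G} (hM : Inv x H M) (h : M ≠ ⊥) :
    ∃ N, N ≤ M ∧ N ≠ ⊥ ∧ Inv x H N ∧ ∀ K, Inv x H K → K ≤ N → K = ⊥ ∨ K = N := by
  obtain ⟨N, hNM, ⟨hN1, hN2⟩, hmin⟩ := Set.Finite.exists_le_minimal
    (Set.toFinite {K : Subgroup G | K ≠ ⊥ ∧ Inv x H K}) (a := M) ⟨h, hM⟩
  refine ⟨N, hNM, hN1, hN2, fun K hK hKN => ?_⟩
  by_cases hb : K = ⊥
  · exact Or.inl hb
  · exact Or.inr (le_antisymm hKN (hmin ⟨hb, hK⟩ hKN))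

/-- A minimal invariant subgroup of a solvable group is elementary abelian. -/
theorem minimal_abelian [Finite G] {x : G} {H N : Subgroup G} (hsol : Group.IsSolvable H)
    (hN : Inv x H N) (hne : N ≠ ⊥) (hmin : ∀ K, Inv x H K → K ≤ N → K = ⊥ ∨ K = N) :
    (∀ a ∈ N, ∀ b ∈ N, a * b = b * a) ∧ ∃ q : ℕ, q.Prime ∧ ∀ a ∈ N, a ^ q = 1 := by
  have hlt := Coprime.commutator_lt_of_isSolvable (Coprime.isSolvable_of_le hN.le hsol) hne
  have hbot : ⁅N, N⁆ = ⊥ := (hmin _ (hN.comm hN) hlt.le).resolve_right hlt.ne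
  have hab : ∀ a ∈ N, ∀ b ∈ N, a * b = b * a := fun a ha b hb =>
    commutatorElement_eq_one_iff_commute.mp (mem_bot.mp (hbot ▸ commutator_mem_commutator ha hb))
  refine ⟨hab, ?_⟩
  obtain ⟨q, hq, hdvd⟩ := Nat.exists_prime_and_dvd (mt Subgroup.card_eq_one.mp hne : Nat.card N ≠ 1)
  have := Fact.mk hq
  let Ω : Subgroup G :=
    { carrier := {a | a ∈ N ∧ a ^ q = 1}
      one_mem' := ⟨one_mem _, one_pow _⟩
      mul_mem' := fun {a b} ha hb => ⟨mul_mem ha.1 hb.1, by
        rw [(show Commute a b from hab a ha.1 b hb.1).mul_pow, ha.2, hb.2, one_mul]⟩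
      inv_mem' := fun {a} ha => ⟨inv_mem ha.1, by rw [inv_pow, ha.2, inv_one]⟩ }
  have hnorm : ∀ A : Subgroup G, A ≤ normalizer (N : Set G) → A ≤ normalizer (Ω : Set G) := fun A hA =>
    le_normalizer_of_conj fun g hg a ha => ⟨conj_mem_of_le hA hg ha.1, by
      rw [conj_pow, ha.2, mul_one, mul_inv_cancel]⟩
  obtain ⟨⟨a, ha⟩, hao⟩ := exists_prime_orderOf_dvd_card' q hdvd
  rw [orderOf_mk] at hao
  refine ⟨q, hq, fun b hb => ?_⟩
  rcases hmin Ω ⟨fun c hc => hN.le hc.1, hnorm _ hN.nH, hnorm _ hN.nx⟩ (fun c hc => hc.1) with h | h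
  · have : a ∈ Ω := ⟨ha, hao ▸ pow_orderOf_eq_one a⟩
    rw [h, mem_bot] at this
    rw [this, orderOf_one] at hao
    exact absurd hao.symm hq.ne_one
  · exact (h.ge hb).2

/-- If `A` is normalised by `X` and `X` fixes `[N, A]`, then `[A, X]` centralises `N` when `X`
centralises `N`. -/
theorem centralizes_of_three [Finite G] {X N A : Subgroup G} (hXN : X ≤ centralizer (N : Set G))
    (hNA : ⁅N, A⁆ ≤ centralizer (X : Set G)) : ⁅A, X⁆ ≤ centralizer (N : Set G) := by
  have h1 : ⁅⁅X, N⁆, A⁆ = ⊥ := by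
    rw [commutator_eq_bot_iff_le_centralizer.mpr hXN, commutator_bot_left]
  have h2 : ⁅⁅N, A⁆, X⁆ = ⊥ := commutator_eq_bot_iff_le_centralizer.mpr hNA
  exact commutator_eq_bot_iff_le_centralizer.mp
    (commutator_commutator_eq_bot_of_rotate (H₁ := A) (H₂ := X) (H₃ := N) h1 h2)

/-- If `[m, c]` is fixed by `x` and commutes with `c` for all `m` in an `x`-invariant `A`, then `c`
commutes with `[A, x]`. -/
theorem trick [Finite G] {x c : G} {A : Subgroup G} (hAx : zpowers x ≤ normalizer (A : Set G))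
    (hc : x * c = c * x) (hfix : ∀ m ∈ A, x * (m * c * m⁻¹ * c⁻¹) = (m * c * m⁻¹ * c⁻¹) * x)
    (hz : ∀ m ∈ A, ∀ n ∈ A, n * (m * c * m⁻¹ * c⁻¹) = (m * c * m⁻¹ * c⁻¹) * n) :
    ⁅A, zpowers x⁆ ≤ centralizer ({c} : Set G) := by
  rw [commutator_le]
  intro m hm a ha
  rw [mem_centralizer_singleton_iff]
  set z := m * c * m⁻¹ * c⁻¹ with hzdef
  have hz' : a * z = z * a := by
    obtain ⟨k, rfl⟩ := mem_zpowers_iff.mp ha
    exact (Commute.zpow_left (show Commute x z from hfix m hm) k).eq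
  have hca : a * c = c * a := by
    obtain ⟨k, rfl⟩ := mem_zpowers_iff.mp ha
    exact (Commute.zpow_left (show Commute x c from hc) k).eq
  have hn : a * m⁻¹ * a⁻¹ ∈ A := conj_mem_of_le hAx ha (inv_mem hm)
  set n := a * m⁻¹ * a⁻¹ with hndef
  have hnz : n * z = z * n := hz m hm n hn
  have h1 : m * c * m⁻¹ = z * c := by rw [hzdef]; group
  have h2 : m⁻¹ * c = c * (c⁻¹ * m⁻¹ * c) := by group
  have h3 : m⁻¹ * (z * c) * m = c := by rw [hzdef]; group
  have h4 : a * (z * c) * a⁻¹ = z * c := by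
    calc a * (z * c) * a⁻¹ = (a * z) * c * a⁻¹ := by group
      _ = z * (a * c) * a⁻¹ := by rw [hz']; group
      _ = z * c := by rw [hca]; group
  have h5 : n * (z * c) * n⁻¹ = c := by
    calc n * (z * c) * n⁻¹ = a * (m⁻¹ * (a⁻¹ * (z * c) * a) * m) * a⁻¹ := by rw [hndef]; group
      _ = a * (m⁻¹ * (z * c) * m) * a⁻¹ := by
        rw [show a⁻¹ * (z * c) * a = z * c from by
          conv_lhs => rw [← h4]
          group]
      _ = a * c * a⁻¹ := by rw [h3]
      _ = c := by rw [hca]; group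
  have h6 : n * c * n⁻¹ = z⁻¹ * c := by
    calc n * c * n⁻¹ = z⁻¹ * (z * n) * c * n⁻¹ := by group
      _ = z⁻¹ * (n * z) * c * n⁻¹ := by rw [hnz]
      _ = z⁻¹ * (n * (z * c) * n⁻¹) := by group
      _ = z⁻¹ * c := by rw [h5]
  have h7 : (m * n) * c * (m * n)⁻¹ = c := by
    calc (m * n) * c * (m * n)⁻¹ = m * (n * c * n⁻¹) * m⁻¹ := by group
      _ = m * z⁻¹ * c * m⁻¹ := by rw [h6]; group
      _ = z⁻¹ * (m * c * m⁻¹) := by
        have := (show Commute m z from hz m hm m hm).inv_right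
        rw [this.eq]; group
      _ = c := by rw [h1]; group
  rw [show ⁅m, a⁆ = m * n from by rw [commutatorElement_def, hndef]; group]
  exact mul_inv_eq_iff_eq_mul.mp h7

variable {p : ℕ} [Fact p.Prime]

/-- Reduction modulo an invariant subgroup, given the statement for smaller groups. -/
theorem le_T_sup [Finite G] {x : G} {H N : Subgroup G} (hx : orderOf x = p)
    (hxH : x ∈ normalizer (H : Set G)) (hsol : Group.IsSolvable H) (hcop : ¬ p ∣ Nat.card H)
    (hH : ⁅H, zpowers x⁆ = H) (hN : Inv x H N) (hne : N ≠ ⊥)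
    (IH : ∀ {L : Type u} [Group L] [Finite L] (y : L) (K : Subgroup L), Nat.card K < Nat.card H →
      orderOf y = p → y ∈ normalizer (K : Set L) → Group.IsSolvable K → ¬ p ∣ Nat.card K →
      ⁅K, zpowers y⁆ ⊓ centralizer (zpowers y : Set L) ≤ T y K) :
    H ⊓ centralizer (zpowers x : Set G) ≤ T x H ⊔ N ⊓ centralizer (zpowers x : Set G) := by
  set L := normalizer (N : Set G) with hL
  have hxL : x ∈ L := hN.nx (mem_zpowers x)
  set N₀ := N.subgroupOf L with hN₀
  have hN₀n : N₀.Normal := normal_subgroupOf_of_le_normalizer le_rfl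
  let f := QuotientGroup.mk' N₀
  set xL : L := ⟨x, hxL⟩ with hxLdef
  set HL := H.subgroupOf L with hHL
  have hxo : orderOf xL = p := by
    rw [← hx]; exact (orderOf_injective L.subtype L.subtype_injective xL).symm
  have hmap : HL.map L.subtype = H := map_subgroupOf_eq_of_le hN.nH
  have hzmap : (zpowers xL).map L.subtype = zpowers x := MonoidHom.map_zpowers _ _
  have hcomm : ⁅HL, zpowers xL⁆ = HL := by
    refine map_injective L.subtype_injective ?_
    rw [map_commutator, hmap, hzmap, hH]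
  have hxHL : xL ∈ normalizer (HL : Set L) :=
    mem_normalizer_fintype fun z hz => (mem_normalizer_iff.mp hxH (z : G)).mp hz
  have hcHL : Nat.card HL = Nat.card H := Nat.card_congr (subgroupOfEquivOfLe hN.nH).toEquiv
  have hfx : orderOf (f xL) = p := by
    refine orderOf_eq_prime (by rw [← map_pow, ← hxo, pow_orderOf_eq_one, map_one]) fun e => ?_
    have : x ∈ N := mem_subgroupOf.mp ((QuotientGroup.eq_one_iff _).mp e)
    exact hcop (hx ▸ H.orderOf_dvd_natCard (hN.le this))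
  have hlt : Nat.card (HL.map f) < Nat.card H := by
    have h1 := OddLocal.FrobeniusFormula.card_eq_inf_ker_mul f HL
    rw [hcHL] at h1
    have h2 : 1 < Nat.card ↥(HL ⊓ f.ker) := by
      rw [Subgroup.one_lt_card_iff_ne_bot, QuotientGroup.ker_mk', hN₀]
      intro e
      apply hne
      rw [eq_bot_iff]
      intro n hn
      have : (⟨n, le_normalizer hn⟩ : L) ∈ HL ⊓ N.subgroupOf L :=
        ⟨mem_subgroupOf.mpr (hN.le hn), mem_subgroupOf.mpr hn⟩
      rw [e, mem_bot] at this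
      exact mem_bot.mpr (congrArg Subtype.val this)
    have h3 : 0 < Nat.card (HL.map f) := Nat.card_pos
    rw [h1]
    exact lt_mul_of_one_lt_left h3 h2
  have hcop' : ¬ p ∣ Nat.card (HL.map f) := fun hd => hcop (hcHL ▸ hd.trans (card_map_dvd _ _))
  have hsolL : Group.IsSolvable HL :=
    Group.isSolvable_of_isSolvable_injective (f := (subgroupOfEquivOfLe hN.nH).toMonoidHom)
      (subgroupOfEquivOfLe hN.nH).injective
  have hIH := IH (f xL) (HL.map f) hlt hfx
    (le_normalizer_map f ⟨xL, hxHL, rfl⟩) (Coprime.isSolvable_map f hsolL) hcop'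
  rw [← MonoidHom.map_zpowers f xL, ← map_commutator, hcomm, MonoidHom.map_zpowers f xL] at hIH
  intro c hc
  obtain ⟨hcH, hcx⟩ := mem_inf.mp hc
  have hcL : c ∈ L := hN.nH hcH
  set cL : L := ⟨c, hcL⟩
  have hfc : f cL ∈ (T xL HL).map f := by
    refine T_map_le f hxo hxHL (hcHL ▸ hcop) (hIH ⟨mem_map_of_mem f (mem_subgroupOf.mpr hcH), ?_⟩)
    exact mem_cent.mpr (by
      rw [← map_mul, ← map_mul]
      exact congrArg f (Subtype.ext (mem_cent.mp hcx)))
  obtain ⟨t, ht, hft⟩ := hfc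
  have ht' : (t : G) ∈ T x H := hmap ▸ map_T_le L.subtype xL HL (mem_map_of_mem L.subtype ht)
  have hn : (t : G)⁻¹ * c ∈ N := by
    have : f (t⁻¹ * cL) = 1 := by rw [map_mul, map_inv, hft, inv_mul_cancel]
    exact mem_subgroupOf.mp ((QuotientGroup.eq_one_iff _).mp this)
  have := mul_mem (mem_sup_left (T := N ⊓ centralizer (zpowers x : Set G)) ht')
    (mem_sup_right (S := T x H) (mem_inf.mpr ⟨hn, mul_mem (inv_mem (T_le_cent x H ht')) hcx⟩))
  simpa using this

end Cfsg.Agent.LocalFlavell.CommutatorFixed
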