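import Cfsg.Agent.LocalFlavell.CommutatorFixedInv

/-! A minimal invariant subgroup not centralised by `x`. -/

set_option autoImplicit false
set_option linter.unusedSectionVars false

namespace Cfsg.Agent.LocalFlavell.CommutatorFixed

open Subgroup
open scoped Pointwise commutatorElement IsMulCommutative

universe u

variable {G : Type u} [Group G] {p : ℕ} [Fact p.Prime]

/-- The statement to be proved, for all groups smaller than `H`. -/
def Smaller (p : ℕ) (n : ℕ) : Prop :=
  ∀ {L : Type u} [Group L] [Finite L] (y : L) (K : Subgroup L), Nat.card K < n →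
    orderOf y = p → y ∈ normalizer (K : Set L) → Group.IsSolvable K → ¬ p ∣ Nat.card K →
    ⁅K, zpowers y⁆ ⊓ centralizer (zpowers y : Set L) ≤ T y K

/-- The standing hypotheses. -/
structure Setup (p : ℕ) (x : G) (H : Subgroup G) : Prop where
  hx : orderOf x = p
  hp2 : p ≠ 2
  hxH : x ∈ normalizer (H : Set G)
  hsol : Group.IsSolvable H
  hcop : ¬ p ∣ Nat.card H
  hH : ⁅H, zpowers x⁆ = H
  IH : Smaller.{u} p (Nat.card H)

variable {x : G} {H : Subgroup G}

theorem Setup.cop (s : Setup p x H) [Finite G] {K : Subgroup G} (hK : K ≤ H) :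
    (Nat.card (zpowers x)).Coprime (Nat.card K) :=
  (coprime_zpowers s.hx Fact.out s.hcop).coprime_dvd_right (card_dvd_of_le hK)

theorem Setup.fixed_mem [Finite G] (s : Setup p x H) {K : Subgroup G} (hKH : K ≤ H) (hne : K ≠ H)
    (hxK : zpowers x ≤ normalizer (K : Set G)) :
    ⁅K, zpowers x⁆ ⊓ centralizer (zpowers x : Set G) ≤ T x H := by
  have hlt : Nat.card K < Nat.card H := by
    by_contra h
    exact hne (eq_of_le_of_card_ge hKH (not_lt.mp h))
  exact (s.IH x K hlt s.hx (hxK (mem_zpowers x)) (Coprime.isSolvable_of_le hKH s.hsol)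
    (fun hd => s.hcop (hd.trans (card_dvd_of_le hKH)))).trans (T_mono hKH)

theorem Setup.D_le [Finite G] (s : Setup p x H) {y : G} (hy : y ∈ H) : D x y ≤ H :=
  CommutatorFixed.D_le s.hxH hy

theorem Setup.D_eq [Finite G] (s : Setup p x H) {y : G} (hy : y ∈ H) :
    ⁅D x y, zpowers x⁆ = D x y :=
  CommutatorFixed.D_eq s.hx fun hd => s.hcop (hd.trans (card_dvd_of_le (s.D_le hy)))

theorem Setup.le_of_D [Finite G] (s : Setup p x H) {K : Subgroup G} (hK : ∀ h ∈ H, D x h ≤ K) :
    H ≤ K :=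
  s.hH.ge.trans (commutator_le_of_D hK)

theorem Setup.nX [Finite G] (s : Setup p x H) : zpowers x ≤ normalizer (H : Set G) := by
  rw [zpowers_le]; exact s.hxH

/-- The subgroup `[M, x] (T ∩ M)`. -/
theorem lemmaA [Finite G] (s : Setup p x H) {M : Subgroup G} (hM : Inv x H M) (hne : M ≠ H)
    (hall : ∀ y ∈ H, M ⊔ D x y ≠ H) :
    Inv x H (⁅M, zpowers x⁆ ⊔ T x H ⊓ M) ∧
      (⁅M, zpowers x⁆ ⊔ T x H ⊓ M) ⊓ centralizer (zpowers x : Set G) ≤ T x H := by
  set X := zpowers x with hX
  have hMX : ⁅M, X⁆ ≤ M := Coprime.commutator_le_of_le_normalizer hM.nx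
  have hsolX := solvable_zpowers x
  have hcopM := s.cop hM.le
  have hM0 : ⁅M, X⁆ ⊔ T x H ⊓ M ≤ M := sup_le hMX inf_le_right
  refine ⟨⟨hM0.trans hM.le, s.le_of_D fun y hy => ?_, ?_⟩, ?_⟩
  · set K := M ⊔ D x y with hK
    have hKH : K ≤ H := sup_le hM.le (s.D_le hy)
    have hKX : X ≤ normalizer (K : Set G) := le_normalizer_sup hM.nx (D_normalizer x y)
    set J := ⁅K, X⁆ with hJ
    have hKJ : K ≤ normalizer (J : Set G) := normalizer_commutator_ge_left _ _
    have hDJ : D x y ≤ J := (s.D_eq hy).ge.trans (commutator_mono le_sup_right le_rfl)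
    have hSJ : ⁅M, X⁆ ≤ J := commutator_mono le_sup_left le_rfl
    refine le_normalizer_of_conj fun d hd m hm => ?_
    have h1 : d * m * d⁻¹ * m⁻¹ ∈ J := by
      have := mul_mem (hDJ hd) (conj_mem_of_le hKJ (mem_sup_left (hM0 hm)) (inv_mem (hDJ hd)))
      simpa [mul_assoc] using this
    have h2 : d * m * d⁻¹ * m⁻¹ ∈ M :=
      mul_mem (conj_mem_of_le hM.nH (s.D_le hy hd) (hM0 hm)) (inv_mem (hM0 hm))
    obtain ⟨c, hc, a, ha, e⟩ :=
      Coprime.exists_eq_centralizer_mul_commutator hM.nx hcopM (Or.inl hsolX) h2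
    obtain ⟨hcM, hcC⟩ := mem_inf.mp hc
    have hcJ : c ∈ J := by
      have := mul_mem h1 (inv_mem (hSJ ha))
      rwa [e, mul_inv_cancel_right] at this
    have hcT : c ∈ T x H := s.fixed_mem hKH (hall y hy) hKX ⟨hcJ, hcC⟩
    have h3 : d * m * d⁻¹ * m⁻¹ ∈ ⁅M, X⁆ ⊔ T x H ⊓ M := by
      rw [e]; exact mul_mem (mem_sup_right ⟨hcT, hcM⟩) (mem_sup_left ha)
    have := mul_mem h3 hm
    simpa using this
  · refine le_normalizer_sup (normalizer_commutator_ge_right _ _)
      (le_normalizer_of_centralizer (le_centralizer_iff.mp (inf_le_left.trans (T_le_cent x H))))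
  · intro c hc
    obtain ⟨hc0, hcC⟩ := mem_inf.mp hc
    obtain ⟨a, ha, t, ht, rfl⟩ := (Coprime.mem_sup_of_le_normalizer
      (inf_le_right.trans (normalizer_commutator_ge_left M X))).mp hc0
    have haC : a ∈ centralizer (X : Set G) := by
      have := mul_mem hcC (inv_mem (T_le_cent x H (mem_inf.mp ht).1))
      rwa [mul_inv_cancel_right] at this
    exact mul_mem (s.fixed_mem hM.le hne hM.nx ⟨ha, haC⟩) (mem_inf.mp ht).1

/-- Unique fixed decomposition: parts of a fixed element in an invariant direct product are fixed. -/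
theorem parts_fixed {A B : Subgroup G} (hd : A ⊓ B = ⊥) {g a b : G} (ha : a ∈ A) (hb : b ∈ B)
    (hga : g * a * g⁻¹ ∈ A) (hgb : g * b * g⁻¹ ∈ B) (hfix : g * (b * a) = b * a * g) :
    g * a = a * g ∧ g * b = b * g := by
  have h : (g * b * g⁻¹) * (g * a * g⁻¹) = b * a := by
    calc (g * b * g⁻¹) * (g * a * g⁻¹) = g * (b * a) * g⁻¹ := by group
      _ = _ := by rw [hfix]; group
  have h2 : b⁻¹ * (g * b * g⁻¹) = a * (g * a * g⁻¹)⁻¹ := by
    rw [eq_mul_inv_iff_mul_eq, mul_assoc, h, inv_mul_cancel_left]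
  have h3 : b⁻¹ * (g * b * g⁻¹) ∈ A ⊓ B :=
    mem_inf.mpr ⟨h2 ▸ mul_mem ha (inv_mem hga), mul_mem (inv_mem hb) hgb⟩
  rw [hd, mem_bot] at h3
  refine ⟨?_, ?_⟩
  · rw [h3] at h2
    exact mul_inv_eq_iff_eq_mul.mp (mul_inv_eq_one.mp h2.symm).symm
  · exact mul_inv_eq_iff_eq_mul.mp (inv_mul_eq_one.mp h3).symm

theorem noncentral [Finite G] (s : Setup p x H) {N : Subgroup G} (hN : Inv x H N) (hne : N ≠ ⊥)
    (hmin : ∀ K, Inv x H K → K ≤ N → K = ⊥ ∨ K = N) (hncen : ⁅N, zpowers x⁆ ≠ ⊥) :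
    H ⊓ centralizer (zpowers x : Set G) ≤ T x H := by
  set X := zpowers x with hX
  have hsolX := solvable_zpowers x
  obtain ⟨hab, q, hq, hqN⟩ := minimal_abelian s.hsol hN hne hmin
  have := Fact.mk hq
  have : IsMulCommutative N := ⟨⟨fun a b => Subtype.ext (hab a a.2 b b.2)⟩⟩
  have hNN : N ≤ centralizer (N : Set G) := fun a ha => mem_centralizer_iff.mpr fun b hb => hab b hb a ha
  have hcopN := s.cop hN.le
  have hdisj := Coprime.inf_centralizer_inf_commutator hN.nx hcopN
  refine (le_T_sup s.hx s.hxH s.hsol s.hcop s.hH hN hne s.IH).trans (sup_le le_rfl ?_)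
  by_cases hNH : N = H
  · subst hNH
    rw [s.hH] at hdisj
    refine le_trans ?_ bot_le
    rw [← hdisj]
    exact le_inf le_rfl inf_le_left
  by_cases hall : ∀ y ∈ H, N ⊔ D x y ≠ H
  · obtain ⟨h1, h2⟩ := lemmaA s hN hNH hall
    have hle : ⁅N, X⁆ ⊔ T x H ⊓ N ≤ N :=
      sup_le (Coprime.commutator_le_of_le_normalizer hN.nx) inf_le_right
    rcases hmin _ h1 hle with h | h
    · exact absurd (le_bot_iff.mp (le_sup_left.trans h.le)) hncen
    · rw [h] at h2; exact h2
  push Not at hall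
  obtain ⟨y, hy, hND⟩ := hall
  set D0 := D x y with hD0
  have hD0H : D0 ≤ H := s.D_le hy
  have hD0X : X ≤ normalizer (D0 : Set G) := D_normalizer x y
  have hD0N : D0 ≤ normalizer (N : Set G) := hD0H.trans hN.nH
  intro w hw
  by_contra hwT
  have hDH : D0 ≠ H := fun e =>
    hwT (le_T hy (show w ∈ D x y from hD0 ▸ e.symm ▸ hN.le (mem_inf.mp hw).1) (mem_inf.mp hw).2)
  -- `N` meets `D0` trivially
  have hnHN : ∀ {K : Subgroup G}, N ≤ normalizer (K : Set G) → D0 ≤ normalizer (K : Set G) →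
      H ≤ normalizer (K : Set G) := fun h1 h2 => hND ▸ sup_le h1 h2
  have hND0 : N ⊓ D0 = ⊥ := by
    refine (hmin _ ⟨inf_le_left.trans hN.le, hnHN
      (le_normalizer_of_centralizer (hNN.trans (centralizer_le (show ((N ⊓ D0 : Subgroup G) : Set G) ⊆ N from inf_le_left (a := N)))))
      (le_normalizer_inf hD0N le_normalizer), le_normalizer_inf hN.nx hD0X⟩
      inf_le_left).resolve_right fun e => hDH ?_
    rw [← hND]
    exact (sup_eq_right.mpr (e ▸ inf_le_right)).symm
  have hD0ne : D0 ≠ ⊥ := fun e => hNH (by rw [← hND, e, sup_bot_eq])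
  obtain ⟨R, hRD, hRne, hR, hRmin⟩ :=
    exists_minimal (inv_self x (hD0X (mem_zpowers x))) hD0ne
  obtain ⟨hRab, r, hr, hrR⟩ := minimal_abelian (Coprime.isSolvable_of_le hD0H s.hsol) hR hRne hRmin
  have := Fact.mk hr
  have : IsMulCommutative R := ⟨⟨fun a b => Subtype.ext (hRab a a.2 b b.2)⟩⟩
  have hRH : R ≤ H := hRD.trans hD0H
  have hRN : R ≤ normalizer (N : Set G) := hRH.trans hN.nH
  have hCR : N ⊓ centralizer (R : Set G) = ⊥ := by
    refine (hmin _ ⟨inf_le_left.trans hN.le, hnHN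
      (le_normalizer_of_centralizer (hNN.trans (centralizer_le (show ((N ⊓ centralizer (R : Set G) : Subgroup G) : Set G) ⊆ N from inf_le_left (a := N)))))
      (le_normalizer_inf hD0N (le_normalizer_centralizer hR.nH)),
      le_normalizer_inf hN.nx (le_normalizer_centralizer hR.nx)⟩ inf_le_left).resolve_right fun e => ?_
    have hRinv : Inv x H R :=
      ⟨hRH, hnHN (le_normalizer_of_centralizer (e ▸ inf_le_right)) hR.nH, hR.nx⟩
    refine hwT ((((le_T_sup s.hx s.hxH s.hsol s.hcop s.hH hRinv hRne s.IH).trans (sup_le le_rfl ?_)) :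
      H ⊓ centralizer (X : Set G) ≤ T x H) (mem_inf.mpr ⟨hN.le (mem_inf.mp hw).1, (mem_inf.mp hw).2⟩))
    exact fun c hc => le_T hy (hRD (mem_inf.mp hc).1) (mem_inf.mp hc).2
  -- the orders of `N` and `R` are coprime
  obtain ⟨kN, hkN⟩ := IsPGroup.iff_card.mp (show IsPGroup q N from
    fun a => ⟨1, Subtype.ext (by simpa using hqN a a.2)⟩)
  obtain ⟨kR, hkR⟩ := IsPGroup.iff_card.mp (show IsPGroup r R from
    fun a => ⟨1, Subtype.ext (by simpa using hrR a a.2)⟩)
  have hrq : r ≠ q := by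
    intro e
    subst e
    have hp1 : IsPGroup r (R ⊔ N : Subgroup G) :=
      (IsPGroup.of_card hkR).to_sup_of_normal_right' (IsPGroup.of_card hkN) hRN
    have := hp1.isNilpotent
    have hlt : ⁅N, R⁆ < N := (commutator_mono le_rfl (le_sup_left : R ≤ R ⊔ N)).trans_lt
      (Coprime.commutator_lt_of_isNilpotent le_sup_right hne (sup_le hRN le_normalizer))
    have h1 : Inv x H ⁅N, R⁆ := ⟨hlt.le.trans hN.le, hnHN
      (le_normalizer_of_centralizer (hNN.trans (centralizer_le (show ((⁅N, R⁆ : Subgroup G) : Set G) ⊆ N from hlt.le))))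
      (le_normalizer_commutator hD0N hR.nH), le_normalizer_commutator hN.nx hR.nx⟩
    have h2 := commutator_eq_bot_iff_le_centralizer.mp ((hmin _ h1 hlt.le).resolve_right hlt.ne)
    exact hne (le_bot_iff.mp (hCR ▸ le_inf le_rfl h2))
  have hcopRN : (Nat.card R).Coprime (Nat.card N) := by
    rw [hkN, hkR]; exact Nat.Coprime.pow _ _ ((Nat.coprime_primes hr hq).mpr hrq)
  -- reduce to the fixed points of `E = C_R(x)`
  set CN := N ⊓ centralizer (X : Set G) with hCN
  set E := R ⊓ centralizer (X : Set G) with hE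
  have hET : E ≤ T x H := fun c hc => le_T hy (hRD (mem_inf.mp hc).1) (mem_inf.mp hc).2
  have hECN : E ≤ normalizer (CN : Set G) :=
    le_normalizer_inf (inf_le_left.trans hRN) (inf_le_right.trans le_normalizer)
  obtain ⟨c, hc, a, ha, hwca⟩ := Coprime.exists_eq_centralizer_mul_commutator hECN
    ((hcopRN.coprime_dvd_left (card_dvd_of_le inf_le_left)).coprime_dvd_right (card_dvd_of_le inf_le_left))
    (Or.inl (Coprime.isSolvable_of_le (inf_le_left : E ≤ R) (Coprime.isSolvable_of_isMulCommutative R)))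
    hw
  have haT : a ∈ T x H := by
    refine (commutator_le.mpr fun n hn e he => ?_) ha
    obtain ⟨hnN, hnX⟩ := mem_inf.mp hn
    exact mul_mem (T_conj (hN.le hnN) (mem_cent.mp hnX) (hET he)) (inv_mem (hET he))
  obtain ⟨⟨hcN, hcX⟩, hcE⟩ := hc
  suffices hcT : c ∈ T x H from hwT (hwca ▸ mul_mem hcT haT)
  set R0 := ⁅R, X⁆ with hR0
  have hR0R : R0 ≤ R := Coprime.commutator_le_of_le_normalizer hR.nx
  have hsplitR : R0 ⊔ E = R := Coprime.commutator_sup_inf_centralizer hR.nx (s.cop hRH) (Or.inl hsolX)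
  by_cases hNR : N ⊔ R = H
  · exfalso
    -- here `D0 = R` and `RX` is a Frobenius group
    have hDR : D0 = R := by
      refine le_antisymm (fun d hd => ?_) hRD
      obtain ⟨n, hn, ρ, hρ, e⟩ := (Coprime.mem_sup_of_le_normalizer hRN).mp (hNR.ge (hD0H hd))
      have : n ∈ N ⊓ D0 := ⟨hn, by
        have := mul_mem hd (inv_mem (hRD hρ))
        rwa [← e, mul_inv_cancel_right] at this⟩
      rw [hND0, mem_bot] at this
      rwa [← e, this, one_mul]
    have hEbot : E = ⊥ := by
      have := Coprime.inf_centralizer_inf_commutator hR.nx (s.cop hRH)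
      rw [show ⁅R, zpowers x⁆ = R from by rw [← hDR]; exact s.D_eq hy] at this
      rw [← le_bot_iff, ← this]; exact le_inf le_rfl inf_le_left
    have hhyp : OddLocal.FrobeniusFormula.Hyp N R X := by
      refine ⟨hR.nx, fun a ha ha1 u hu hau => ?_, hRN, hN.nx, Coprime.isSolvable_of_isMulCommutative N, ?_⟩
      · rw [← mem_bot, ← hEbot]
        refine ⟨hu, mem_cent.mpr ?_⟩
        obtain ⟨k, hk⟩ : x ∈ zpowers a := by
          have : zpowers a = X := eq_of_le_of_card_ge (zpowers_le.mpr ha) (le_of_eq (by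
            rw [hX, Nat.card_zpowers, Nat.card_zpowers, s.hx]
            exact ((Nat.dvd_prime Fact.out).mp ((X.orderOf_dvd_natCard ha).trans (dvd_of_eq (by rw [hX, Nat.card_zpowers, s.hx])))).resolve_left
              (fun e => ha1 (orderOf_eq_one_iff.mp e)) |>.symm))
          rw [this]; exact mem_zpowers x
        rw [← hk]
        exact ((show Commute a u from hau).zpow_left k).eq
      · exact Nat.Coprime.mul_right hcopRN.symm hcopN.symm
    have hform : Nat.card N = Nat.card CN ^ p := by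
      have h := OddLocal.FrobeniusFormula.formula hhyp
      have h1 : N ⊓ centralizer ((R ⊔ X : Subgroup G) : Set G) = ⊥ := by
        rw [← le_bot_iff, ← hCR]
        exact inf_le_inf_left _ (centralizer_le (show (R : Set G) ⊆ (R ⊔ X : Subgroup G) from le_sup_left (a := R)))
      rw [OddLocal.FrobeniusFormula.Formula, h1, hCR, Subgroup.card_bot, one_pow, one_mul, mul_one,
        hX, Nat.card_zpowers, s.hx] at h
      exact h
    have hsurj : ∀ n ∈ N, ∃ c ∈ CN, ∃ m ∈ CN, c * (y * m⁻¹ * y⁻¹) = n := by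
      intro n hn
      have hny : n * y ∈ H := mul_mem (hN.le hn) hy
      set L := D x (n * y) with hL
      have hLH : L ≤ H := s.D_le hny
      have hLX : X ≤ normalizer (L : Set G) := D_normalizer x _
      have hgen : ∀ i : ℕ, (n * y)⁻¹ * x ^ i * (n * y) * (x ^ i)⁻¹ *
          (y⁻¹ * x ^ i * y * (x ^ i)⁻¹)⁻¹ ∈ N := by
        intro i
        have h1 : n⁻¹ * (x ^ i * n * (x ^ i)⁻¹) ∈ N :=
          mul_mem (inv_mem hn) (conj_mem_of_le hN.nx (npow_mem_zpowers x i) hn)
        have := conj_mem_of_le hN.nH (inv_mem hy) h1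
        rw [show (n * y)⁻¹ * x ^ i * (n * y) * (x ^ i)⁻¹ * (y⁻¹ * x ^ i * y * (x ^ i)⁻¹)⁻¹ =
          y⁻¹ * (n⁻¹ * (x ^ i * n * (x ^ i)⁻¹)) * y⁻¹⁻¹ from by group]
        exact this
      have hNL : N ⊔ L = H := by
        refine le_antisymm (sup_le hN.le hLH) (hND ▸ sup_le le_sup_left ?_)
        rw [hD0, D, closure_le]
        rintro _ ⟨i, rfl⟩
        have := mul_mem (inv_mem (mem_sup_left (T := L) (hgen i))) (mem_sup_right (S := N) (mem_D x (n * y) i))
        simpa [mul_assoc] using this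
      have hNiL : N ⊓ L = ⊥ := by
        refine (hmin _ ⟨inf_le_left.trans hN.le, hNL ▸ sup_le
          (le_normalizer_of_centralizer (hNN.trans (centralizer_le (show ((N ⊓ L : Subgroup G) : Set G) ⊆ N from inf_le_left (a := N)))))
          (le_normalizer_inf (hLH.trans hN.nH) le_normalizer),
          le_normalizer_inf hN.nx hLX⟩ inf_le_left).resolve_right fun e => hwT ?_
        refine le_T hny ?_ (mem_inf.mp hw).2
        have : w ∈ N ⊓ L := e.symm ▸ (mem_inf.mp hw).1
        exact (mem_inf.mp this).2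
      have hcL : Nat.card L = Nat.card R := by
        have h1 := Coprime.card_sup_of_disjoint (hLH.trans hN.nH) (disjoint_iff.mpr hNiL)
        have h2 := Coprime.card_sup_of_coprime hRN hcopRN.symm
        rw [hNL] at h1; rw [hNR] at h2
        exact Nat.eq_of_mul_eq_mul_left Nat.card_pos (h1.symm.trans h2)
      obtain ⟨k, hk, hkeq⟩ := Coprime.exists_conj_eq_of_sup_eq hRN (hLH.trans hN.nH)
        (hNR.trans hNL.symm) hcopRN.symm (hcL ▸ hcopRN.symm)
        (Or.inl (Coprime.isSolvable_of_isMulCommutative N))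
      obtain ⟨m, hm, hmeq⟩ := Coprime.exists_centralizer_conj_eq hN.nx hcopN (Or.inl hsolX) hR.nx hLX hk hkeq
      have hma : m * (y⁻¹ * x * y * x⁻¹) * m⁻¹ ∈ L := hmeq ▸
        Coprime.conj_mem_conj_smul (hDR ▸ mem_D_one x y)
      have hmx : x * m = m * x := mem_cent.mp (mem_inf.mp hm).2
      have heq : (n * y)⁻¹ * x * (n * y) * x⁻¹ = m * (y⁻¹ * x * y * x⁻¹) * m⁻¹ := by
        refine mul_inv_eq_one.mp (mem_bot.mp (hNiL ▸ mem_inf.mpr ⟨?_, ?_⟩))
        · have h1 := hgen 1
          rw [pow_one] at h1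
          have h2 : m * (y⁻¹ * x * y * x⁻¹) * m⁻¹ * (y⁻¹ * x * y * x⁻¹)⁻¹ ∈ N := by
            have := mul_mem (mem_inf.mp hm).1 (conj_mem_of_le hN.nH (hD0H (mem_D_one x y)) (inv_mem (mem_inf.mp hm).1))
            simpa [mul_assoc] using this
          have := mul_mem h1 (inv_mem h2)
          simpa [mul_assoc] using this
        · exact mul_mem (mem_D_one x _) (inv_mem hma)
      have hfix : x * (n * (y * m * y⁻¹)) = n * (y * m * y⁻¹) * x := by
        have e1 : y⁻¹ * n⁻¹ * x * n * y = m * y⁻¹ * x * y * m⁻¹ := by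
          calc y⁻¹ * n⁻¹ * x * n * y = ((n * y)⁻¹ * x * (n * y) * x⁻¹) * x := by group
            _ = m * (y⁻¹ * x * y * x⁻¹) * m⁻¹ * x := by rw [heq]
            _ = m * (y⁻¹ * x * y * x⁻¹) * (m⁻¹ * x * m) * m⁻¹ := by group
            _ = m * (y⁻¹ * x * y * x⁻¹) * (m⁻¹ * (x * m)) * m⁻¹ := by group
            _ = _ := by rw [hmx]; group
        calc x * (n * (y * m * y⁻¹)) = n * (y * (y⁻¹ * n⁻¹ * x * n * y) * m * y⁻¹) := by group
          _ = n * (y * (m * y⁻¹ * x * y * m⁻¹) * m * y⁻¹) := by rw [e1]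
          _ = _ := by group
      exact ⟨n * (y * m * y⁻¹), ⟨mul_mem hn (conj_mem_of_le hN.nH hy (mem_inf.mp hm).1), mem_cent.mpr hfix⟩,
        m, hm, by group⟩
    have hbound : Nat.card N ≤ Nat.card CN * Nat.card CN := by
      rw [← Nat.card_prod]
      refine Nat.card_le_card_of_surjective
        (fun cm : CN × CN => (⟨(cm.1 : G) * (y * (cm.2 : G)⁻¹ * y⁻¹),
          mul_mem cm.1.2.1 (conj_mem_of_le hN.nH hy (inv_mem cm.2.2.1))⟩ : N)) fun n => ?_
      obtain ⟨c, hc, m, hm, e⟩ := hsurj n n.2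
      exact ⟨(⟨c, hc⟩, ⟨m, hm⟩), Subtype.ext e⟩
    have h2 : 2 < p := lt_of_le_of_ne (Fact.out : p.Prime).two_le s.hp2.symm
    have hCN1 : Nat.card CN = 1 := by
      by_contra h
      have h1 : 1 < Nat.card CN := lt_of_le_of_ne Nat.card_pos (Ne.symm h)
      have := Nat.pow_lt_pow_right h1 h2
      rw [hform] at hbound
      rw [pow_two] at this
      omega
    have : w ∈ CN := hw
    rw [Subgroup.card_eq_one.mp hCN1, mem_bot] at this
    exact hwT (this ▸ one_mem _)
  · have hNRH : N ⊔ R ≤ H := sup_le hN.le hRH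
    have hcopR0 : (Nat.card R0).Coprime (Nat.card N) := hcopRN.coprime_dvd_left (card_dvd_of_le hR0R)
    have hR0N : R0 ≤ normalizer (N : Set G) := hR0R.trans hRN
    obtain ⟨b, hb, a', ha', hcba⟩ := Coprime.exists_eq_centralizer_mul_commutator hR0N hcopR0
      (Or.inr (Coprime.isSolvable_of_isMulCommutative N)) hcN
    have hd : ⁅N, R0⁆ ⊓ (N ⊓ centralizer (R0 : Set G)) = ⊥ := by
      rw [inf_comm]; exact Coprime.inf_centralizer_inf_commutator hR0N hcopR0
    have hR0X : X ≤ normalizer (R0 : Set G) := normalizer_commutator_ge_right R X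
    have hR0E : E ≤ normalizer (R0 : Set G) := inf_le_left.trans (normalizer_commutator_ge_left R X)
    have key : ∀ g, g ∈ normalizer (N : Set G) → g ∈ normalizer (R0 : Set G) → g * c = c * g →
        g * a' = a' * g ∧ g * b = b * g := by
      intro g hgN hgR hgc
      refine parts_fixed hd ha' hb ?_ ?_ (hcba ▸ hgc)
      · exact conj_mem_of_le (H := zpowers g) (le_normalizer_commutator (zpowers_le.mpr hgN) (zpowers_le.mpr hgR))
          (mem_zpowers g) ha'
      · exact conj_mem_of_le (le_normalizer_inf (zpowers_le.mpr hgN) (le_normalizer_centralizer (zpowers_le.mpr hgR)))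
          (mem_zpowers g) hb
    obtain ⟨hxa, hxb⟩ := key x (hN.nx (mem_zpowers x)) (hR0X (mem_zpowers x)) (mem_cent.mp hcX)
    have hb1 : b = 1 := by
      rw [← mem_bot, ← hCR]
      refine ⟨(mem_inf.mp hb).1, ?_⟩
      have : R ≤ centralizer ({b} : Set G) := by
        rw [← hsplitR]
        refine sup_le (fun g hg => mem_centralizer_singleton_iff.mpr
          (mem_centralizer_iff.mp (mem_inf.mp hb).2 g hg)) fun g hg => ?_
        exact mem_centralizer_singleton_iff.mpr (key g (inf_le_left.trans hRN hg) (hR0E hg)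
          (mem_centralizer_iff.mp hcE g hg)).2
      exact mem_centralizer_iff.mpr fun g hg => mem_centralizer_singleton_iff.mp (this hg)
    have hJ : a' ∈ ⁅N ⊔ R, X⁆ := by
      refine (commutator_le.mpr fun n hn ρ hρ => ?_) ha'
      have h1 : R0 ≤ ⁅N ⊔ R, X⁆ := commutator_mono le_sup_right le_rfl
      rw [commutatorElement_def]
      exact mul_mem (conj_mem_of_le (normalizer_commutator_ge_left (N ⊔ R) X) (mem_sup_left hn) (h1 hρ))
        (inv_mem (h1 hρ))
    rw [hcba, hb1, one_mul]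
    exact s.fixed_mem hNRH hNR (le_normalizer_sup hN.nx hR.nx) ⟨hJ, mem_cent.mpr hxa⟩

end Cfsg.Agent.LocalFlavell.CommutatorFixed
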